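import Mathlib
import Groth.Agent.QRegBC.Basic
import Groth.Agent.KRegLib.Kinds
import Groth.Agent.RegImmLib.Basic

/-!
# Flat base change of the four kinds of regular immersions
-/

set_option autoImplicit false
set_option linter.style.haveILetI false
set_option backward.isDefEq.respectTransparency false
set_option backward.isDefEq.respectTransparency.types false

universe u

open MvPolynomial TensorProduct AlgebraicGeometry CategoryTheory

namespace Groth.Agent.QRegBC

variable {A B : Type u} [CommRing A] [CommRing B] [Algebra A B] {r : ℕ} (f : Fin r → B)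
variable (A' : Type u) [CommRing A'] [Algebra A A']

local notation "𝐉" => Ideal.span (Set.range f)

/-- Quasi-regular sequences are stable under flat base change. -/
theorem isQuasiRegular_flatBaseChange (hq : CAlgX.IsQuasiRegular f) [Module.Flat A A'] :
    CAlgX.IsQuasiRegular (fun i => ((1 : A') ⊗ₜ[A] f i : A' ⊗[A] B)) := by
  classical
  intro n P hP heval d
  let incl : B →ₐ[A] A' ⊗[A] B := Algebra.TensorProduct.includeRight
  have hspan : Ideal.span (Set.range fun i => ((1 : A') ⊗ₜ[A] f i : A' ⊗[A] B)) = 𝐉.map incl := by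
    rw [Ideal.map_span, ← Set.range_comp]
    rfl
  by_cases hd : d ∈ Mon r n
  swap
  · rw [hP.coeff_eq_zero (fun h => hd ((mem_Mon d).2 h))]
    exact zero_mem _
  -- tensor descriptions
  let mkJ : B →ₗ[A] B ⧸ 𝐉 := (Ideal.Quotient.mkₐ A 𝐉).toLinearMap
  let mkN : B →ₗ[A] B ⧸ 𝐉 ^ (n + 1) := (Ideal.Quotient.mkₐ A (𝐉 ^ (n + 1))).toLinearMap
  have hker : ∀ (I : Ideal B) (z : A' ⊗[A] B), z ∈ I.map incl →
      (Ideal.Quotient.mkₐ A I).toLinearMap.lTensor A' z = 0 := by
    intro I z hz
    have hle : I.map incl ≤ RingHom.ker (Algebra.TensorProduct.map (AlgHom.id A A') (Ideal.Quotient.mkₐ A I)).toRingHom := by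
      rw [Ideal.map_le_iff_le_comap]
      intro b hb
      show Algebra.TensorProduct.map (AlgHom.id A A') (Ideal.Quotient.mkₐ A I) ((1 : A') ⊗ₜ[A] b) = 0
      rw [Algebra.TensorProduct.map_tmul, show Ideal.Quotient.mkₐ A I b = 0 from Ideal.Quotient.eq_zero_iff_mem.2 hb,
        TensorProduct.tmul_zero]
    exact hle hz
  have hker' : ∀ z : A' ⊗[A] B, mkJ.lTensor A' z = 0 → z ∈ 𝐉.map incl := by
    intro z hz
    let j : ↥(𝐉.restrictScalars A) →ₗ[A] B := (𝐉.restrictScalars A).subtype
    have hex : Function.Exact j mkJ := fun y =>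
      ⟨fun h => ⟨⟨y, Ideal.Quotient.eq_zero_iff_mem.1 h⟩, rfl⟩,
        fun ⟨w, hw⟩ => hw ▸ Ideal.Quotient.eq_zero_iff_mem.2 w.2⟩
    obtain ⟨w, rfl⟩ := (lTensor_exact A' hex Ideal.Quotient.mk_surjective z).1 hz
    induction w using TensorProduct.induction_on with
    | zero => simp
    | tmul a x =>
      rw [LinearMap.lTensor_tmul, show a ⊗ₜ[A] (j x) = (a ⊗ₜ[A] (1 : B)) * ((1 : A') ⊗ₜ[A] (x : B)) by
        rw [Algebra.TensorProduct.tmul_mul_tmul, mul_one, one_mul]; rfl]
      exact Ideal.mul_mem_left _ _ (Ideal.mem_map_of_mem incl x.2)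
    | add x y hx hy =>
      rw [map_add]
      exact add_mem (hx ((lTensor_exact A' hex Ideal.Quotient.mk_surjective _).2 ⟨x, rfl⟩))
        (hy ((lTensor_exact A' hex Ideal.Quotient.mk_surjective _).2 ⟨y, rfl⟩))
  rw [hspan]
  refine hker' _ ?_
  -- the element of the tensored graded piece
  let S : (Mon r n) → (B ⧸ 𝐉) →ₗ[A] (Mon r n → B ⧸ 𝐉) := fun e => LinearMap.single A (fun _ => B ⧸ 𝐉) e
  let Z : A' ⊗[A] (Mon r n → B ⧸ 𝐉) :=
    ∑ e : Mon r n, (S e).lTensor A' (mkJ.lTensor A' (P.coeff (e : Fin r →₀ ℕ)))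
  let q : (Mon r n → B ⧸ 𝐉) →ₗ[A] (B ⧸ 𝐉) := LinearMap.proj (⟨d, hd⟩ : Mon r n)
  have hZd : q.lTensor A' Z = mkJ.lTensor A' (P.coeff d) := by
    rw [map_sum, Finset.sum_eq_single (⟨d, hd⟩ : Mon r n)]
    · rw [← LinearMap.lTensor_comp_apply,
        show q ∘ₗ S ⟨d, hd⟩ = LinearMap.id from LinearMap.ext fun x => by simp [q, S], LinearMap.lTensor_id,
        LinearMap.id_apply]
    · intro e _ he
      rw [← LinearMap.lTensor_comp_apply, show q ∘ₗ S e = 0 from LinearMap.ext fun x => by
        simp [q, S, Pi.single_eq_of_ne' he], LinearMap.lTensor_zero, LinearMap.zero_apply]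
    · simp
  rw [← hZd]
  suffices Z = 0 by rw [this, map_zero]
  have hinj : Function.Injective (((iota f n hq).restrictScalars A).lTensor A') :=
    Module.Flat.lTensor_preserves_injective_linearMap _ (iota_injective f n hq)
  refine (injective_iff_map_eq_zero _).1 hinj Z ?_
  have hterm : ∀ (e : Mon r n) (c : A' ⊗[A] B),
      ((iota f n hq).restrictScalars A).lTensor A' ((S e).lTensor A' (mkJ.lTensor A' c)) =
        mkN.lTensor A' (eval (fun i => ((1 : A') ⊗ₜ[A] f i : A' ⊗[A] B)) (monomial (e : Fin r →₀ ℕ) c)) := by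
    intro e c
    induction c using TensorProduct.induction_on with
    | zero => simp
    | add x y hx hy => simp only [map_add, hx, hy]
    | tmul a b =>
      have hs : S e (mkJ b) = fun d => Submodule.Quotient.mk ((Pi.single e b : Mon r n → B) d) := by
        funext d
        by_cases h : d = e
        · subst h; simp [S, mkJ]
        · simp [S, h]
      simp only [LinearMap.lTensor_tmul, LinearMap.restrictScalars_apply, hs, iota_mk]
      have h1 : Phi f n (Pi.single e b) = mkN (eval f (monomial (e : Fin r →₀ ℕ) b)) := by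
        show Ideal.Quotient.mk _ _ = Ideal.Quotient.mk _ _
        rw [Finset.sum_eq_single e (fun d _ hde => by rw [Pi.single_eq_of_ne hde, map_zero]) (by simp),
          Pi.single_eq_same]
      rw [h1, ← LinearMap.lTensor_tmul]
      congr 1
      rw [eval_monomial, eval_monomial]
      rw [show (Finsupp.prod (e : Fin r →₀ ℕ) fun i k => ((1 : A') ⊗ₜ[A] f i : A' ⊗[A] B) ^ k) =
        incl (Finsupp.prod (e : Fin r →₀ ℕ) fun i k => f i ^ k) by
        rw [map_finsuppProd]; simp [incl]]
      show a ⊗ₜ[A] (b * _) = (a ⊗ₜ[A] b) * ((1 : A') ⊗ₜ[A] _)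
      rw [Algebra.TensorProduct.tmul_mul_tmul, mul_one]
  rw [map_sum]
  simp only [hterm]
  rw [← map_sum, ← map_sum]
  have hPsum : (∑ e : Mon r n, monomial (e : Fin r →₀ ℕ) (P.coeff (e : Fin r →₀ ℕ))) = P := by
    refine MvPolynomial.ext _ _ fun e => ?_
    rw [coeff_sum]
    by_cases he : e ∈ Mon r n
    · rw [Finset.sum_eq_single ⟨e, he⟩ (fun d _ hd => by
        rw [coeff_monomial, if_neg (fun h => hd (Subtype.ext h))]) (by simp), coeff_monomial, if_pos rfl]
    · rw [Finset.sum_eq_zero fun d _ => by rw [coeff_monomial, if_neg]; exact fun h : (d : Fin r →₀ ℕ) = e => he (h ▸ d.2)]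
      exact (hP.coeff_eq_zero (fun h => he ((mem_Mon e).2 h))).symm
  rw [hPsum]
  refine hker _ _ ?_
  rw [Ideal.map_pow, ← hspan]
  exact heval

end Groth.Agent.QRegBC

namespace Groth.Agent.RegImmLib

open RingTheory.Sequence

variable {R S : Type u} [CommRing R] [CommRing S] [Algebra R S] [Module.Flat R S] {r : ℕ}

theorem isQuasiRegular_of_ringEquiv {R S : Type u} [CommRing R] [CommRing S] (e : R ≃+* S) (f : Fin r → R)
    (hq : CAlgX.IsQuasiRegular f) : CAlgX.IsQuasiRegular (fun i => e (f i)) := by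
  letI : Algebra R S := e.toRingHom.toAlgebra
  haveI : IsLocalization (⊥ : Submonoid R) R := IsLocalization.self bot_le
  haveI : IsLocalization (⊥ : Submonoid R) S :=
    IsLocalization.isLocalization_of_algEquiv (⊥ : Submonoid R) (AlgEquiv.ofRingEquiv (f := e) fun _ => rfl)
  exact QRegBC.isQuasiRegular_localization (⊥ : Submonoid R) f hq

theorem isQuasiRegular_flat_map (f : Fin r → R) (hq : CAlgX.IsQuasiRegular f) :
    CAlgX.IsQuasiRegular (fun i => algebraMap R S (f i)) := by
  have h := isQuasiRegular_of_ringEquiv (Algebra.TensorProduct.rid R R S).toRingEquiv _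
    (QRegBC.isQuasiRegular_flatBaseChange (A := R) f S hq)
  convert h using 2 with i
  show algebraMap R S (f i) = Algebra.TensorProduct.rid R R S ((1 : S) ⊗ₜ[R] f i)
  rw [Algebra.TensorProduct.rid_tmul, Algebra.smul_def, mul_one]

theorem isH1Regular_flat_map (f : Fin r → R) (hf : CAlgX.IsH1Regular f) :
    CAlgX.IsH1Regular (fun i => algebraMap R S (f i)) := by
  classical
  intro v hv
  have h0 : ∑ i, f i • v i = 0 := by
    rw [← hv]
    exact Finset.sum_congr rfl fun i _ => by rw [Algebra.smul_def, mul_comm]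
  obtain ⟨k, a, y, hvy, hfa⟩ :=
    Module.Flat.isTrivialRelation_of_sum_smul_eq_zero (R := R) (M := S) (f := f) (x := v) h0
  let φ : (Fin r → R) →ₗ[R] (Fin r → S) := (Algebra.linearMap R S).compLeft (Fin r)
  have hv' : v = ∑ j, y j • φ (fun i => a i j) := by
    funext i
    rw [hvy i, Finset.sum_apply]
    refine Finset.sum_congr rfl fun j _ => ?_
    show a i j • y j = y j * algebraMap R S (a i j)
    rw [Algebra.smul_def, mul_comm]
  rw [hv']
  refine Submodule.sum_mem _ fun j _ => Submodule.smul_mem _ _ ?_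
  have hmem := hf (fun i => a i j) (Eq.trans (Finset.sum_congr rfl fun i _ => mul_comm _ _) (hfa j))
  have hle : Submodule.span R {v : Fin r → R | ∃ i k : Fin r, v = Pi.single i (f k) - Pi.single k (f i)} ≤
      ((Submodule.span S {v : Fin r → S | ∃ i k : Fin r, v = Pi.single i (algebraMap R S (f k)) -
        Pi.single k (algebraMap R S (f i))}).restrictScalars R).comap φ := by
    rw [Submodule.span_le]
    rintro _ ⟨i, k, rfl⟩
    refine Submodule.subset_span ⟨i, k, ?_⟩
    funext l
    simp only [φ, LinearMap.compLeft_apply, Function.comp_apply, Pi.sub_apply, Pi.single_apply,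
      Algebra.linearMap_apply, map_sub, apply_ite (algebraMap R S), map_zero]
  exact hle hmem

theorem seq_flat_map (k : RegImm.Kind) (rs : List R) (h : k.Seq R rs)
    (hne : Ideal.ofList (rs.map (algebraMap R S)) ≠ ⊤) : k.Seq S (rs.map (algebraMap R S)) := by
  have hq : ∀ {P : ∀ {c : ℕ}, (Fin c → S) → Prop},
      P (fun i : Fin rs.length => algebraMap R S (rs.get i)) → P (rs.map (algebraMap R S)).get := by
    intro P hP
    have key : ∀ (l : List S) (c : ℕ) (g : Fin c → S), List.ofFn g = l → P g → P l.get := by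
      rintro _ c g rfl hg
      have h1 : (List.ofFn g).get = fun i => g (i.cast (List.length_ofFn)) := by
        funext i; simp; rfl
      rw [h1]
      have h2 : ∀ {c' : ℕ} (e : c' = c), P (fun i : Fin c' => g (i.cast e)) := by
        rintro c' rfl; exact hg
      exact h2 _
    refine key _ _ _ ?_ hP
    conv_rhs => rw [← List.ofFn_get rs]
    rw [List.map_ofFn]
    rfl
  cases k with
  | regular =>
    refine ⟨IsWeaklyRegular.of_flat (S := S) h.toIsWeaklyRegular, ?_⟩
    rw [smul_eq_mul, Ideal.mul_top]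
    exact hne.symm
  | koszul =>
    have h1 := KoszulFlatLib.isKoszulRegularSeq_of_isExact (WiebeLib.isExact_map (S := S)
      (WiebeLib.isExact_of_isKoszulRegularSeq rs.get (by rw [List.ofFn_get]; exact h)))
    have h2 : (List.ofFn fun i => algebraMap R S (rs.get i)) = rs.map (algebraMap R S) := by
      conv_rhs => rw [← List.ofFn_get rs]
      rw [List.map_ofFn]
      rfl
    rw [h2] at h1
    exact h1
  | h1 => exact hq (P := fun {c} g => CAlgX.IsH1Regular g) (isH1Regular_flat_map rs.get h)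
  | quasi => exact hq (P := fun {c} g => CAlgX.IsQuasiRegular g) (isQuasiRegular_flat_map rs.get h)

/-- **Flat base change of a regular immersion, for each of the four kinds.** -/
theorem isRegularImmersionAt_baseChange {X Y X' Y' : Scheme.{u}} {i : Y ⟶ X} {g : X' ⟶ X} [Flat g]
    {i' : Y' ⟶ X'} {g' : Y' ⟶ Y} (hsq : IsPullback g' i' i g) (k : RegImm.Kind) (z' : Y')
    (h : RegImm.IsRegularImmersionAt k i (g' z')) : RegImm.IsRegularImmersionAt k i' z' := by
  obtain ⟨⟨U, hU⟩, hzU, hci, rs, hrs, hker⟩ := h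
  haveI := hci
  have hx : g (i' z') ∈ U := by
    have h1 : g (i' z') = i (g' z') := (congrArg (fun φ : Y' ⟶ X => φ z') hsq.w).symm
    rw [h1]
    exact hzU
  obtain ⟨U', hU', hzU', hle⟩ := exists_isAffineOpen_mem_and_subset (U := g ⁻¹ᵁ U) (x := i' z') hx
  obtain ⟨hUY, hUs⟩ := Synt29.surjective_app_of_isClosedImmersion_restrict i U hU
  have hUY' : i' ⁻¹ᵁ U' = g' ⁻¹ᵁ (i ⁻¹ᵁ U) ⊓ i' ⁻¹ᵁ U' := by
    refine (inf_eq_right.2 fun y hy => ?_).symm
    show i (g' y) ∈ U
    have h1 : i (g' y) = g (i' y) := congrArg (fun φ : Y' ⟶ X => φ y) hsq.w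
    rw [h1]
    exact hle hy
  have hpo := (isIso_pushoutSection_iff hsq hle le_rfl hUY').1
    (isIso_pushoutSection_of_isAffineOpen hsq hle le_rfl hUY' hU hU' hUY)
  have hs : Function.Surjective (i.appLE U (i ⁻¹ᵁ U) le_rfl) := by
    rw [← Scheme.Hom.app_eq_appLE]
    exact hUs
  have hk := ker_of_isPushout hpo hs
  rw [← Scheme.Hom.app_eq_appLE, ← Scheme.Hom.app_eq_appLE] at hk
  letI : Algebra Γ(X, U) Γ(X', U') := (g.appLE U U' hle).hom.toAlgebra
  haveI : Module.Flat Γ(X, U) Γ(X', U') := g.flat_appLE hU hU' hle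
  have hk' : RingHom.ker (i'.app U').hom = Ideal.ofList (rs.map (algebraMap Γ(X, U) Γ(X', U'))) := by
    rw [hk, hker, ← Ideal.map_ofList]
    rfl
  have hci' : IsClosedImmersion (i' ∣_ U') := by
    have h2 := Scheme.Hom.isPullback_resLE hsq hle le_rfl hUY'
    have h3 : IsClosedImmersion (i.resLE U (i ⁻¹ᵁ U) le_rfl) := by
      rw [Scheme.Hom.resLE_eq_morphismRestrict]
      exact hci
    rw [← Scheme.Hom.resLE_eq_morphismRestrict]
    exact MorphismProperty.of_isPullback (P := @IsClosedImmersion) h2 h3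
  refine ⟨⟨U', hU'⟩, hzU', hci', _, seq_flat_map k rs hrs ?_, hk'⟩
  rw [← hk']
  haveI : Nonempty (i' ⁻¹ᵁ U' : Y'.Opens) := ⟨⟨z', hzU'⟩⟩
  exact RingHom.ker_ne_top _

end Groth.Agent.RegImmLib
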