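import Mathlib
import Groth.Prelude.Def_Mor2
import Groth.Agent.RegImmLib.FlatKinds

/-!
# Regular closed immersions and `RegImm.IsRegularImmersionAt`
-/

set_option autoImplicit false
set_option linter.style.haveILetI false
set_option backward.isDefEq.respectTransparency false
set_option backward.isDefEq.respectTransparency.types false

universe u

open AlgebraicGeometry CategoryTheory

namespace Groth.Agent.RegImmLib

theorem regClosed_iff {Z X : Scheme.{u}} (i : Z ⟶ X) :
    Mor2.IsRegularClosedImmersion i ↔ IsClosedImmersion i ∧ RegImm.IsRegularImmersion .regular i := by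
  constructor
  · rintro ⟨hci, h⟩
    haveI := hci
    refine ⟨hci, inferInstance, fun z => ?_⟩
    obtain ⟨U, hU, hzU, rs, hrs, hker⟩ := h z
    exact ⟨⟨U, hU⟩, hzU, inferInstance, rs, hrs, (Scheme.Hom.ker_apply i ⟨U, hU⟩).symm.trans hker⟩
  · rintro ⟨hci, -, h⟩
    haveI := hci
    refine ⟨hci, fun z => ?_⟩
    obtain ⟨⟨U, hU⟩, hzU, -, rs, hrs, hker⟩ := h z
    exact ⟨U, hU, hzU, rs, hrs, (Scheme.Hom.ker_apply i ⟨U, hU⟩).trans hker⟩

theorem regClosed_baseChange {X Y X' Y' : Scheme.{u}} {i : Y ⟶ X} {g : X' ⟶ X} [Flat g]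
    {i' : Y' ⟶ X'} {g' : Y' ⟶ Y} (hsq : IsPullback g' i' i g)
    (hi : Mor2.IsRegularClosedImmersion i) : Mor2.IsRegularClosedImmersion i' := by
  obtain ⟨hci, -, h⟩ := (regClosed_iff i).1 hi
  have hci' := MorphismProperty.of_isPullback (P := @IsClosedImmersion) hsq hci
  haveI := hci'
  exact (regClosed_iff i').2 ⟨hci', inferInstance, fun z => isRegularImmersionAt_baseChange hsq _ z (h _)⟩

end Groth.Agent.RegImmLib
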