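import Mathlib
import Groth.Agent.RegImmLib.Closed

/-!
# Composition of regular immersions
-/

set_option autoImplicit false
set_option linter.style.haveILetI false
set_option backward.isDefEq.respectTransparency false
set_option backward.isDefEq.respectTransparency.types false

universe u

open AlgebraicGeometry CategoryTheory RingTheory.Sequence

namespace Groth.Agent.RegImmLib

open Groth.Agent.KRegLib

variable {R S : Type u} [CommRing R] [CommRing S]

theorem exists_lift_list (π : R →+* S) (hπ : Function.Surjective π) : ∀ hs : List S, ∃ ls : List R, ls.map π = hs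
  | [] => ⟨[], rfl⟩
  | h :: hs => by
    obtain ⟨ls, hls⟩ := exists_lift_list π hπ hs
    obtain ⟨l, rfl⟩ := hπ h
    exact ⟨l :: ls, by rw [List.map_cons, hls]⟩

/-- Appending lifts of a regular sequence of the quotient to a regular sequence generating the kernel. -/
theorem exists_append_regular (π : R →+* S) (hπ : Function.Surjective π) (rs : List R)
    (hrs : IsWeaklyRegular R rs) (hker : RingHom.ker π = Ideal.ofList rs) (hs : List S)
    (hhs : IsWeaklyRegular S hs) :
    ∃ ts : List R, IsWeaklyRegular R ts ∧ Ideal.ofList ts = (Ideal.ofList hs).comap π := by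
  obtain ⟨ls, rfl⟩ := exists_lift_list π hπ hs
  letI : Algebra R S := π.toAlgebra
  refine ⟨rs ++ ls, (isWeaklyRegular_append_iff R rs ls).2 ⟨hrs, ?_⟩, ?_⟩
  · have h1 : IsWeaklyRegular S ls := (isWeaklyRegular_map_algebraMap_iff S S ls).1 hhs
    have he : (Ideal.ofList rs • ⊤ : Submodule R R) = LinearMap.ker (Algebra.linearMap R S) := by
      rw [smul_eq_mul, Ideal.mul_top, ← hker]
      rfl
    let e : (R ⧸ (Ideal.ofList rs • ⊤ : Submodule R R)) ≃ₗ[R] S :=
      (Submodule.quotEquivOfEq _ _ he).trans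
        (LinearMap.quotKerEquivOfSurjective (Algebra.linearMap R S) hπ)
    exact (e.isWeaklyRegular_congr ls).2 h1
  · rw [Ideal.ofList_append, ← Ideal.map_ofList, Ideal.comap_map_of_surjective _ hπ, ← RingHom.ker_eq_comap_bot,
      hker, sup_comm]

/-- A regular sequence generating the ideal restricts to a smaller basic open through the point. -/
theorem restrict_seq {Z X : Scheme.{u}} (i : Z ⟶ X) {U : X.Opens} (hU : IsAffineOpen U)
    [IsClosedImmersion (i ∣_ U)] (k : RegImm.Kind) (rs : List Γ(X, U)) (hrs : k.Seq Γ(X, U) rs)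
    (hker : RingHom.ker (i.app U).hom = Ideal.ofList rs) (g : Γ(X, U)) (z : Z) (hz : i z ∈ X.basicOpen g) :
    ∃ rs' : List Γ(X, X.basicOpen g), k.Seq Γ(X, X.basicOpen g) rs' ∧
      RingHom.ker (i.app (X.basicOpen g)).hom = Ideal.ofList rs' := by
  obtain ⟨hU', hs⟩ := Synt29.surjective_app_of_isClosedImmersion_restrict i U hU
  letI : Algebra Γ(X, U) Γ(X, X.basicOpen g) := (X.presheaf.map (homOfLE (X.basicOpen_le g)).op).hom.toAlgebra
  haveI : IsLocalization.Away g Γ(X, X.basicOpen g) := hU.isLocalization_basicOpen g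
  haveI : Module.Flat Γ(X, U) Γ(X, X.basicOpen g) := IsLocalization.flat _ (Submonoid.powers g)
  have hk : RingHom.ker (i.app (X.basicOpen g)).hom =
      Ideal.ofList (rs.map (algebraMap Γ(X, U) Γ(X, X.basicOpen g))) := by
    refine (app_basicOpen_props i hU hU' hs g).2.2.trans ?_
    rw [hker, ← Ideal.map_ofList]
    rfl
  refine ⟨_, seq_flat_map k rs hrs ?_, hk⟩
  rw [← hk]
  haveI : Nonempty (i ⁻¹ᵁ X.basicOpen g : Z.Opens) := ⟨⟨z, hz⟩⟩
  exact RingHom.ker_ne_top _

/-- **A composite of regular immersions is a regular immersion.** -/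
theorem regularImmersionAt_comp {X Y Z : Scheme.{u}} (i : Y ⟶ X) (j : Z ⟶ Y) (z : Z)
    (hi : RegImm.IsRegularImmersionAt .regular i (j z)) (hj : RegImm.IsRegularImmersionAt .regular j z) :
    RegImm.IsRegularImmersionAt .regular (j ≫ i) z := by
  obtain ⟨⟨U, hU⟩, hzU, hci, f, hf, hker⟩ := hi
  obtain ⟨⟨V, hV⟩, hzV, hcj, h, hh, hkerh⟩ := hj
  haveI := hci
  haveI := hcj
  obtain ⟨hU', hUs⟩ := Synt29.surjective_app_of_isClosedImmersion_restrict i U hU
  obtain ⟨g, g', hgg, hzg⟩ := exists_basicOpen_le_affine_inter hU' hV (j z) ⟨hzU, hzV⟩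
  obtain ⟨G, rfl⟩ := hUs g
  let W := X.basicOpen G
  have hW : IsAffineOpen W := hU.basicOpen G
  haveI hciW : IsClosedImmersion (i ∣_ W) := isClosedImmersion_restrict_of_le i (X.basicOpen_le G)
  obtain ⟨hW', hWs⟩ := Synt29.surjective_app_of_isClosedImmersion_restrict i W hW
  have hpre : i ⁻¹ᵁ W = Y.basicOpen g' := (Scheme.preimage_basicOpen i G).trans hgg
  have hzW : i (j z) ∈ W := by
    show j z ∈ i ⁻¹ᵁ W
    rw [hpre, ← hgg]
    exact hzg
  obtain ⟨f', hf', hkerf'⟩ := restrict_seq i hU _ f hf hker G (j z) hzW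
  obtain ⟨h', hh', hkerh'⟩ := restrict_seq j hV _ h hh hkerh g' z (hgg ▸ hzg)
  have key : ∀ O : Y.Opens, O = Y.basicOpen g' → IsClosedImmersion (j ∣_ O) ∧
      ∃ h'' : List Γ(Y, O), IsRegular Γ(Y, O) h'' ∧ RingHom.ker (j.app O).hom = Ideal.ofList h'' := by
    rintro O rfl
    exact ⟨isClosedImmersion_restrict_of_le j (Y.basicOpen_le g'), h', hh', hkerh'⟩
  obtain ⟨hcjW, h'', hh'', hkerh''⟩ := key (i ⁻¹ᵁ W) hpre
  obtain ⟨ts, hts, htsI⟩ := exists_append_regular (i.app W).hom hWs f' hf'.toIsWeaklyRegular hkerf' h''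
    hh''.toIsWeaklyRegular
  have hk : RingHom.ker ((j ≫ i).app W).hom = Ideal.ofList ts := by
    show RingHom.ker ((j.app (i ⁻¹ᵁ W)).hom.comp (i.app W).hom) = _
    rw [← RingHom.comap_ker, hkerh'', htsI]
  refine ⟨⟨W, hW⟩, hzW, ?_, ts, ⟨hts, ?_⟩, hk⟩
  · rw [morphismRestrict_comp]
    exact MorphismProperty.comp_mem @IsClosedImmersion _ _ hcjW hciW
  · rw [smul_eq_mul, Ideal.mul_top, ← hk]
    haveI : Nonempty ((j ≫ i) ⁻¹ᵁ W : Z.Opens) := ⟨⟨z, hzW⟩⟩
    exact (RingHom.ker_ne_top _).symm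

theorem regClosed_comp {Z Y X : Scheme.{u}} (i : Z ⟶ Y) (j : Y ⟶ X)
    (hi : Mor2.IsRegularClosedImmersion i) (hj : Mor2.IsRegularClosedImmersion j) :
    Mor2.IsRegularClosedImmersion (i ≫ j) := by
  obtain ⟨hci, -, hi⟩ := (regClosed_iff i).1 hi
  obtain ⟨hcj, -, hj⟩ := (regClosed_iff j).1 hj
  haveI := hci
  haveI := hcj
  exact (regClosed_iff _).2 ⟨inferInstance, inferInstance, fun z => regularImmersionAt_comp j i z (hj _) (hi z)⟩

end Groth.Agent.RegImmLib
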