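import Mathlib
import Groth.Agent.RegImmLib.RegComp
import Groth.Agent.QRegBC.Lift
import Groth.Agent.Triage.SliceFlat
import Groth.Agent.FlatLocus.Basic

/-!
# Relative quasi-regular immersions are regular
-/

set_option autoImplicit false
set_option linter.style.haveILetI false
set_option backward.isDefEq.respectTransparency false
set_option backward.isDefEq.respectTransparency.types false

universe u

open AlgebraicGeometry CategoryTheory RingTheory.Sequence

namespace Groth.Agent.RegImmLib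

open Groth.Agent.KRegLib

/-- The ideal of a base change on an affine open. -/
theorem ker_baseChange {X Y X' Y' : Scheme.{u}} {i : Y ⟶ X} {g : X' ⟶ X}
    {i' : Y' ⟶ X'} {g' : Y' ⟶ Y} (hsq : IsPullback g' i' i g) {U : X.Opens} (hU : IsAffineOpen U)
    [hci : IsClosedImmersion (i ∣_ U)] {U' : X'.Opens} (hU' : IsAffineOpen U') (hle : U' ≤ g ⁻¹ᵁ U) :
    RingHom.ker (i'.app U').hom = (RingHom.ker (i.app U).hom).map (g.appLE U U' hle).hom ∧
      IsClosedImmersion (i' ∣_ U') := by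
  obtain ⟨hUY, hUs⟩ := Synt29.surjective_app_of_isClosedImmersion_restrict i U hU
  have hUY' : i' ⁻¹ᵁ U' = g' ⁻¹ᵁ (i ⁻¹ᵁ U) ⊓ i' ⁻¹ᵁ U' := by
    refine (inf_eq_right.2 fun y hy => ?_).symm
    show i (g' y) ∈ U
    have h1 : i (g' y) = g (i' y) := congrArg (fun φ : Y' ⟶ X => φ y) hsq.w
    rw [h1]
    exact hle hy
  have hpo := (isIso_pushoutSection_iff hsq hle le_rfl hUY').1
    (isIso_pushoutSection_of_isAffineOpen hsq hle le_rfl hUY' hU hU' hUY)
  have hs : Function.Surjective (i.appLE U (i ⁻¹ᵁ U) le_rfl) := by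
    rw [← Scheme.Hom.app_eq_appLE]
    exact hUs
  have hk := ker_of_isPushout hpo hs
  rw [← Scheme.Hom.app_eq_appLE, ← Scheme.Hom.app_eq_appLE] at hk
  refine ⟨hk, ?_⟩
  have h2 := Scheme.Hom.isPullback_resLE hsq hle le_rfl hUY'
  have h3 : IsClosedImmersion (i.resLE U (i ⁻¹ᵁ U) le_rfl) := by
    rw [Scheme.Hom.resLE_eq_morphismRestrict]
    exact hci
  rw [← Scheme.Hom.resLE_eq_morphismRestrict]
  exact MorphismProperty.of_isPullback (P := @IsClosedImmersion) h2 h3

/-- A quasi-regular sequence with flat quotient is, near each of its zeroes, weakly regular with flat quotients. -/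
theorem exists_away_of_relQuasi {O A : Type u} [CommRing O] [CommRing A] [Algebra O A]
    [Algebra.FinitePresentation O A] [Module.Flat O A] (Q : Ideal A) [Q.IsPrime] (rs : List A)
    (hq : CAlgX.IsQuasiRegular rs.get) (hflat : Module.Flat O (A ⧸ Ideal.ofList rs)) (hQ : Ideal.ofList rs ≤ Q) :
    ∃ g ∉ Q, ∀ (T : Type u) [CommRing T] [Algebra A T] [Algebra O T] [IsScalarTower O A T]
      [Module.Flat A T], IsUnit (algebraMap A T g) →
        IsWeaklyRegular T (rs.map (algebraMap A T)) ∧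
        ∀ i, Module.Flat O (T ⧸ (Ideal.ofList (rs.take i)).map (algebraMap A T)) := by
  let p : Ideal O := Q.comap (algebraMap O A)
  haveI : p.IsPrime := Ideal.comap_isPrime _ _
  haveI : Q.LiesOver p := ⟨rfl⟩
  have hbot : (⊥ : Ideal O).map (algebraMap O A) = ⊥ := Ideal.map_bot
  let e : (A ⧸ (⊥ : Ideal O).map (algebraMap O A)) ≃+* A :=
    (Ideal.quotEquivOfEq hbot).trans (RingEquiv.quotientBot A)
  have hq' : CAlgX.IsQuasiRegular (fun i => Ideal.Quotient.mk ((⊥ : Ideal O).map (algebraMap O A)) (rs.get i)) := by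
    have := isQuasiRegular_of_ringEquiv e.symm rs.get hq
    exact this
  have hflat' : Module.Flat (O ⧸ (⊥ : Ideal O)) ((A ⧸ (⊥ : Ideal O).map (algebraMap O A)) ⧸
      Ideal.span (Set.range (fun i => Ideal.Quotient.mk ((⊥ : Ideal O).map (algebraMap O A)) (rs.get i)))) := by
    refine RingHom.flat_algebraMap_iff.1 ?_
    let J := Ideal.ofList rs
    let J' := Ideal.span (Set.range (fun i => Ideal.Quotient.mk ((⊥ : Ideal O).map (algebraMap O A)) (rs.get i)))
    have hJ : J' = J.map (e.symm : A →+* _) := by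
      show _ = (Ideal.span {a | a ∈ rs}).map _
      rw [Ideal.map_span]
      refine congrArg Ideal.span (Set.ext fun y => ⟨?_, ?_⟩)
      · rintro ⟨i, rfl⟩
        exact ⟨rs.get i, List.get_mem _ _, rfl⟩
      · rintro ⟨a, ha, rfl⟩
        obtain ⟨i, rfl⟩ := List.mem_iff_get.1 ha
        exact ⟨i, rfl⟩
    let q : (A ⧸ J) ≃+* _ := Ideal.quotientEquiv J J' e.symm hJ
    have h1 : algebraMap (O ⧸ (⊥ : Ideal O)) ((A ⧸ (⊥ : Ideal O).map (algebraMap O A)) ⧸ J') =
        ((q : (A ⧸ J) →+* _).comp (algebraMap O (A ⧸ J))).comp (RingEquiv.quotientBot O).toRingHom := by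
      refine Ideal.Quotient.ringHom_ext (RingHom.ext fun o => ?_)
      rfl
    rw [h1]
    exact ((RingHom.Flat.of_bijective (RingEquiv.quotientBot O).bijective).comp
      (RingHom.flat_algebraMap_iff.2 hflat)).comp (RingHom.Flat.of_bijective q.bijective)
  have hreg := QRegBC.regular_fibre (⊥ : Ideal O) rs.get p bot_le Q
    (fun i => hQ (Ideal.subset_span (List.get_mem _ _))) hq' hflat'
  have hlist : List.ofFn rs.get = rs := List.ofFn_get rs
  refine Triage.SliceFlat.exists_slice p Q rs (fun f hf => hQ (Ideal.subset_span hf)) ?_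
  intro i hi t ht
  have h := hreg i (by rw [hlist]; exact hi) t
  simp only [hlist] at h
  exact h ht

/-- A morphism flat at every point of an affine open is flat on sections. -/
theorem flat_appLE_of_stalks {X S : Scheme.{u}} (f : X ⟶ S) {V : S.Opens} (hV : IsAffineOpen V) {U : X.Opens}
    (hU : IsAffineOpen U) (e : U ≤ f ⁻¹ᵁ V) (hfl : ∀ x ∈ U, (f.stalkMap x).hom.Flat) :
    (f.appLE V U e).hom.Flat := by
  have h1 : Flat (U.ι ≫ f) := Flat.of_stalkMap _ fun z => (FibFlat.flat_stalk_open_comp U.ι f z).2 (hfl _ z.2)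
  have h2 : Flat (Spec.map (f.appLE V U e) ≫ hV.fromSpec) := by
    rw [IsAffineOpen.SpecMap_appLE_fromSpec f hV hU e, ← hU.isoSpec_inv_ι, Category.assoc]
    infer_instance
  have h3 : Flat (Spec.map (f.appLE V U e)) := Flat.of_stalkMap _ fun z => by
    have h := Flat.stalkMap (Spec.map (f.appLE V U e) ≫ hV.fromSpec) z
    rw [Scheme.Hom.stalkMap_comp] at h
    exact (FlatLocus.flat_isIso_comp _ _).1 h
  exact (HasRingHomProperty.Spec_iff (P := @Flat)).1 h3

/-- A relative quasi-regular immersion is regular, universally, at the points where the ambient morphism is flat. -/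
theorem regular_of_relQuasi_at {Z X S : Scheme.{u}} (f : X ⟶ S) [LocallyOfFinitePresentation f]
    (i : Z ⟶ X) [Flat (i ≫ f)] (z : Z) (hflat : (f.stalkMap (i z)).hom.Flat)
    (h : RegImm.IsRegularImmersionAt .quasi i z) :
    RegImm.IsRegularImmersionAt .regular i z ∧
      ∀ (S' : Scheme.{u}) (g : S' ⟶ S) (z' : ↥(Limits.pullback i (Limits.pullback.fst f g))),
        Limits.pullback.fst i (Limits.pullback.fst f g) z' = z →
        RegImm.IsRegularImmersionAt .regular (Limits.pullback.snd i (Limits.pullback.fst f g)) z' := by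
  obtain ⟨⟨U, hU⟩, hzU, hci, rs₀, hrs₀, hker₀⟩ := h
  haveI := hci
  obtain ⟨V, hV, hzV, -⟩ := exists_isAffineOpen_mem_and_subset (U := ⊤) (x := f (i z)) trivial
  let F : X.Opens := ⟨{x | (f.stalkMap x).hom.Flat}, FlatLocus.isOpen_flat_locus f⟩
  obtain ⟨G, hGle', hzG⟩ := hU.exists_basicOpen_le (V := f ⁻¹ᵁ V ⊓ F) ⟨i z, hzV, hflat⟩ hzU
  have hGle : X.basicOpen G ≤ f ⁻¹ᵁ V := hGle'.trans inf_le_left
  obtain ⟨rs, hrs, hker⟩ := restrict_seq i hU .quasi rs₀ hrs₀ hker₀ G z hzG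
  let W := X.basicOpen G
  have hW : IsAffineOpen W := hU.basicOpen G
  haveI : IsClosedImmersion (i ∣_ W) := isClosedImmersion_restrict_of_le i (X.basicOpen_le G)
  obtain ⟨hW', hWs⟩ := Synt29.surjective_app_of_isClosedImmersion_restrict i W hW
  letI : Algebra Γ(S, V) Γ(X, W) := (f.appLE V W hGle).hom.toAlgebra
  haveI : Module.Flat Γ(S, V) Γ(X, W) := flat_appLE_of_stalks f hV hW hGle fun x hx => (hGle' hx).2
  haveI : Algebra.FinitePresentation Γ(S, V) Γ(X, W) :=
    HasRingHomProperty.appLE @LocallyOfFinitePresentation f ‹_› ⟨V, hV⟩ ⟨W, hW⟩ hGle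
  have hflat : Module.Flat Γ(S, V) (Γ(X, W) ⧸ Ideal.ofList rs) := by
    refine RingHom.flat_algebraMap_iff.1 ?_
    let q : Γ(Z, i ⁻¹ᵁ W) ≃+* Γ(X, W) ⧸ Ideal.ofList rs :=
      (RingHom.quotientKerEquivOfSurjective hWs).symm.trans (Ideal.quotEquivOfEq hker)
    have hpre : i ⁻¹ᵁ W ≤ (i ≫ f) ⁻¹ᵁ V := fun y hy => hGle hy
    have h1 : algebraMap Γ(S, V) (Γ(X, W) ⧸ Ideal.ofList rs) =
        (q : _ →+* _).comp ((i ≫ f).appLE V (i ⁻¹ᵁ W) hpre).hom := by
      refine RingHom.ext fun a => ?_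
      rw [← Scheme.Hom.appLE_comp_appLE i f V W (i ⁻¹ᵁ W) hGle le_rfl, ← Scheme.Hom.app_eq_appLE]
      show Ideal.Quotient.mk (Ideal.ofList rs) (f.appLE V W hGle a) =
        Ideal.quotEquivOfEq hker ((RingHom.quotientKerEquivOfSurjective hWs).symm (i.app W (f.appLE V W hGle a)))
      rw [RingHom.quotientKerEquivOfSurjective_symm_apply hWs]
      rfl
    rw [h1]
    exact ((i ≫ f).flat_appLE hV hW' hpre).comp (RingHom.Flat.of_bijective q.bijective)
  let Q := (hW.primeIdealOf ⟨i z, hzG⟩).asIdeal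
  have hQ : Ideal.ofList rs ≤ Q := hker.ge.trans (ker_app_le_primeIdealOf i hW hW' z hzG)
  obtain ⟨g₀, hg₀, hgood⟩ := exists_away_of_relQuasi (O := Γ(S, V)) Q rs (quasi_of_seq .quasi rs hrs) hflat hQ
  let W₁ := X.basicOpen g₀
  have hW₁ : IsAffineOpen W₁ := hW.basicOpen g₀
  have hle : W₁ ≤ W := X.basicOpen_le g₀
  have hzW₁ : i z ∈ W₁ := by
    show i z ∈ (X.basicOpen g₀ : Set X)
    rw [← hW.fromSpec_image_basicOpen g₀]
    exact ⟨hW.primeIdealOf ⟨i z, hzG⟩, hg₀, hW.fromSpec_primeIdealOf _⟩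
  let ρ := X.presheaf.map (homOfLE hle).op
  letI : Algebra Γ(X, W) Γ(X, W₁) := ρ.hom.toAlgebra
  haveI : IsLocalization.Away g₀ Γ(X, W₁) := hW.isLocalization_basicOpen g₀
  haveI : Module.Flat Γ(X, W) Γ(X, W₁) := IsLocalization.flat _ (Submonoid.powers g₀)
  letI : Algebra Γ(S, V) Γ(X, W₁) := (f.appLE V W₁ (hle.trans hGle)).hom.toAlgebra
  haveI : IsScalarTower Γ(S, V) Γ(X, W) Γ(X, W₁) := IsScalarTower.of_algebraMap_eq fun r => by
    show (f.appLE V W₁ (hle.trans hGle)).hom r = (f.appLE V W hGle ≫ ρ).hom r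
    rw [Scheme.Hom.appLE_map]
  obtain ⟨hwr, hfl⟩ := hgood Γ(X, W₁) (IsLocalization.Away.algebraMap_isUnit g₀)
  let rs' := rs.map (algebraMap Γ(X, W) Γ(X, W₁))
  have hker' : RingHom.ker (i.app W₁).hom = Ideal.ofList rs' := by
    refine (app_basicOpen_props i hW hW' hWs g₀).2.2.trans ?_
    rw [hker, ← Ideal.map_ofList]
    rfl
  haveI hci₁ : IsClosedImmersion (i ∣_ W₁) := isClosedImmersion_restrict_of_le i hle
  constructor
  · refine ⟨⟨W₁, hW₁⟩, hzW₁, hci₁, rs', ⟨hwr, ?_⟩, hker'⟩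
    rw [smul_eq_mul, Ideal.mul_top, ← hker']
    haveI : Nonempty (i ⁻¹ᵁ W₁ : Z.Opens) := ⟨⟨z, hzW₁⟩⟩
    exact (RingHom.ker_ne_top _).symm
  intro S' g z' hz'
  let P := Limits.pullback f g
  let π : P ⟶ X := Limits.pullback.fst f g
  let i' := Limits.pullback.snd i π
  have hsq : IsPullback (Limits.pullback.fst i π) i' i π := IsPullback.of_hasPullback i π
  have hzπ : π (i' z') ∈ W₁ := by
    have h1 : π (i' z') = i (Limits.pullback.fst i π z') :=
      (congrArg (fun φ : Limits.pullback i π ⟶ X => φ z') hsq.w).symm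
    rw [h1, hz']
    exact hzW₁
  have hzS : g (Limits.pullback.snd f g (i' z')) ∈ V := by
    have h1 : g (Limits.pullback.snd f g (i' z')) = f (π (i' z')) :=
      (congrArg (fun φ : P ⟶ S => φ (i' z')) (Limits.pullback.condition (f := f) (g := g))).symm
    rw [h1]
    exact hle.trans hGle hzπ
  obtain ⟨V', hV', hzV', hV'le⟩ := exists_isAffineOpen_mem_and_subset (U := g ⁻¹ᵁ V) hzS
  let W' := π ⁻¹ᵁ W₁ ⊓ Limits.pullback.snd f g ⁻¹ᵁ V'
  have hsq' : IsPullback π (Limits.pullback.snd f g) f g := IsPullback.of_hasPullback f g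
  have hW'a : IsAffineOpen W' := by
    have : IsAffine _ := hV
    have : IsAffine _ := hV'
    have : IsAffine _ := hW₁
    exact .of_isIso (Scheme.Hom.isPullback_resLE hsq' hV'le (hle.trans hGle) (UY := W') rfl).isoPullback.hom
  obtain ⟨hk, hci'⟩ := ker_baseChange hsq hW₁ hW'a inf_le_left
  have sqR := (isIso_pushoutSection_iff hsq' hV'le (hle.trans hGle) (UY := W') rfl).1
    (isIso_pushoutSection_of_isAffineOpen hsq' hV'le (hle.trans hGle) (UY := W') rfl hV hV' hW₁)
  letI : Algebra Γ(S, V) Γ(S', V') := (g.appLE V V' hV'le).hom.toAlgebra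
  letI : Algebra Γ(X, W₁) Γ(P, W') := (π.appLE W₁ W' inf_le_left).hom.toAlgebra
  letI : Algebra Γ(S', V') Γ(P, W') := ((Limits.pullback.snd f g).appLE V' W' inf_le_right).hom.toAlgebra
  letI : Algebra Γ(S, V) Γ(P, W') :=
    (f.appLE V W₁ (hle.trans hGle) ≫ π.appLE W₁ W' inf_le_left).hom.toAlgebra
  haveI : IsScalarTower Γ(S, V) Γ(X, W₁) Γ(P, W') := IsScalarTower.of_algebraMap_eq fun _ => rfl
  haveI : IsScalarTower Γ(S, V) Γ(S', V') Γ(P, W') := IsScalarTower.of_algebraMap_eq fun r =>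
    congrArg (fun k => k.hom r) sqR.w
  haveI : Algebra.IsPushout Γ(S, V) Γ(S', V') Γ(X, W₁) Γ(P, W') :=
    CommRingCat.isPushout_iff_isPushout.1 sqR.flip
  have hwr' := Triage.SliceFlat.isWeaklyRegular_baseChange (O := Γ(S, V)) Γ(S', V') (T' := Γ(P, W')) rs' hwr
    (fun j => by
      have h := hfl j
      rw [Ideal.map_ofList, List.map_take] at h
      exact h)
  have hk' : RingHom.ker (i'.app W').hom = Ideal.ofList (rs'.map (algebraMap Γ(X, W₁) Γ(P, W'))) := by
    rw [hk, hker', ← Ideal.map_ofList (algebraMap Γ(X, W₁) Γ(P, W')) rs']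
    rfl
  refine ⟨⟨W', hW'a⟩, ⟨hzπ, hzV'⟩, hci', _, ⟨hwr', ?_⟩, hk'⟩
  rw [smul_eq_mul, Ideal.mul_top, ← hk']
  haveI : Nonempty (i' ⁻¹ᵁ W' : (Limits.pullback i π).Opens) := ⟨⟨z', ⟨hzπ, hzV'⟩⟩⟩
  exact (RingHom.ker_ne_top _).symm

/-- A relative quasi-regular immersion over a flat finitely presented scheme is regular, universally. -/
theorem regular_of_relQuasi {Z X S : Scheme.{u}} (f : X ⟶ S) [Flat f] [LocallyOfFinitePresentation f]
    (i : Z ⟶ X) [Flat (i ≫ f)] (z : Z) (h : RegImm.IsRegularImmersionAt .quasi i z) :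
    RegImm.IsRegularImmersionAt .regular i z ∧
      ∀ (S' : Scheme.{u}) (g : S' ⟶ S) (z' : ↥(Limits.pullback i (Limits.pullback.fst f g))),
        Limits.pullback.fst i (Limits.pullback.fst f g) z' = z →
        RegImm.IsRegularImmersionAt .regular (Limits.pullback.snd i (Limits.pullback.fst f g)) z' :=
  regular_of_relQuasi_at f i z (Flat.stalkMap f (i z)) h

end Groth.Agent.RegImmLib
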