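import Mathlib
import Groth.Agent.RegImmLib.RelQuasi
import Groth.Agent.RegNear.Imm
import Groth.Agent.Triage.SliceFlatSch
import Groth.Agent.FibFlat.Stalk

/-!
# Immersions which are regular on the fibres of a flat morphism
-/

set_option autoImplicit false
set_option linter.style.haveILetI false
set_option backward.isDefEq.respectTransparency false
set_option backward.isDefEq.respectTransparency.types false

universe u

open AlgebraicGeometry CategoryTheory RingTheory.Sequence IsLocalRing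

namespace Groth.Agent.RegImmLib

open Groth.Agent.KRegLib

/-- A regular immersion at a point gives a regular sequence generating the kernel on the stalk. -/
theorem exists_stalk_of_regularImmersionAt {Z X : Scheme.{u}} (i : Z ⟶ X) (z : Z)
    (h : RegImm.IsRegularImmersionAt .regular i z) :
    ∃ rs : List ↑(X.presheaf.stalk (i z)), RingTheory.Sequence.IsRegular ↑(X.presheaf.stalk (i z)) rs ∧
      RingHom.ker (i.stalkMap z).hom = Ideal.ofList rs := by
  obtain ⟨⟨U, hU⟩, hzU, hci, rs, hrs, hker⟩ := h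
  haveI := hci
  obtain ⟨hU', hs⟩ := Synt29.surjective_app_of_isClosedImmersion_restrict i U hU
  letI : Algebra Γ(X, U) (X.presheaf.stalk (i z)) := (X.presheaf.germ U (i z) hzU).hom.toAlgebra
  haveI : IsLocalization.AtPrime (X.presheaf.stalk (i z)) (hU.primeIdealOf ⟨i z, hzU⟩).asIdeal :=
    hU.isLocalization_stalk ⟨i z, hzU⟩
  haveI : Module.Flat Γ(X, U) (X.presheaf.stalk (i z)) :=
    IsLocalization.flat _ (hU.primeIdealOf ⟨i z, hzU⟩).asIdeal.primeCompl
  have hsk : RingHom.ker (i.stalkMap z).hom =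
      Ideal.ofList ((show List Γ(X, U) from rs).map (algebraMap Γ(X, U) (X.presheaf.stalk (i z)))) := by
    rw [RegNear.ker_stalkMap_of_surjective i z hU hU' hs hzU, hker, ← Ideal.map_ofList]
    rfl
  refine ⟨_, seq_flat_map .regular _ hrs ?_, hsk⟩
  rw [← hsk]
  exact RingHom.ker_ne_top _

/-- Finitely generated ideals equal at a prime are equal on a neighbourhood. -/
theorem exists_mul_mem_of_map_le {R : Type u} [CommRing R] (p : Ideal R) [p.IsPrime] (A : Type u) [CommRing A]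
    [Algebra R A] [IsLocalization.AtPrime A p] (N M : Ideal R) (hN : N.FG)
    (hle : N.map (algebraMap R A) ≤ M.map (algebraMap R A)) : ∃ t ∉ p, ∀ b ∈ N, t * b ∈ M := by
  classical
  obtain ⟨S, rfl⟩ := hN
  have hex : ∀ b ∈ S, ∃ t ∉ p, t * b ∈ M := fun b hb => by
    obtain ⟨⟨⟨c, hc⟩, s⟩, hcs⟩ := (IsLocalization.mem_map_algebraMap_iff p.primeCompl A).1
      (hle (Ideal.mem_map_of_mem _ (Ideal.subset_span hb)))
    rw [← map_mul, IsLocalization.eq_iff_exists p.primeCompl] at hcs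
    obtain ⟨d, hd⟩ := hcs
    refine ⟨d.1 * s.1, fun h => (Ideal.IsPrime.mem_or_mem ‹p.IsPrime› h).elim d.2 s.2, ?_⟩
    rw [show d.1 * s.1 * b = d.1 * (b * s.1) by ring, hd]
    exact M.mul_mem_left _ hc
  choose! t ht1 ht2 using hex
  refine ⟨∏ b ∈ S, t b, show _ ∈ p.primeCompl from prod_mem fun b hb => ht1 b hb, fun b hb => ?_⟩
  induction hb using Submodule.span_induction with
  | mem b hb =>
    obtain ⟨c, hc⟩ := Finset.dvd_prod_of_mem t hb
    rw [hc, mul_comm (t b), mul_assoc]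
    exact M.mul_mem_left _ (ht2 b hb)
  | zero => rw [mul_zero]; exact M.zero_mem
  | add b c _ _ hb hc => rw [mul_add]; exact M.add_mem hb hc
  | smul c b _ hb => rw [smul_eq_mul, mul_left_comm]; exact M.mul_mem_left _ hb

/-- Generators modulo the base maximal ideal generate, for a flat quotient. -/
theorem eq_of_le_sup_of_flat {O A B : Type u} [CommRing O] [IsLocalRing O] [CommRing A] [IsLocalRing A] [CommRing B]
    [Algebra O A] [Algebra O B] [IsLocalHom (algebraMap O A)] [Module.Flat O B] (π : A →ₐ[O] B)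
    (hπ : Function.Surjective π) (I J : Ideal A) (hI : RingHom.ker π.toRingHom = I) (hfg : I.FG) (hJ : J ≤ I)
    (hle : I ≤ J ⊔ (maximalIdeal O).map (algebraMap O A)) : I = J := by
  subst hI
  refine le_antisymm (Submodule.le_of_le_smul_of_le_jacobson_bot (I := maximalIdeal A) hfg
    (maximalIdeal_le_jacobson _) fun x hx => ?_) hJ
  obtain ⟨a, ha, b, hb, rfl⟩ := Submodule.mem_sup.1 (hle hx)
  refine Submodule.add_mem_sup ha ?_
  have hbk : b ∈ LinearMap.ker π.toLinearMap := by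
    have h1 := Submodule.sub_mem _ hx (hJ ha)
    rw [add_sub_cancel_left] at h1
    exact h1
  have h3 : b ∈ LinearMap.ker π.toLinearMap ⊓ (maximalIdeal O • ⊤ : Submodule O A) := by
    refine ⟨hbk, ?_⟩
    rw [Ideal.smul_top_eq_map]
    exact hb
  rw [LinearMap.ker_inf_smul_top_eq_smul_of_flat (maximalIdeal O) π.toLinearMap hπ] at h3
  refine Submodule.smul_induction_on h3 (fun r hr c hc => ?_) fun c d hc hd => Submodule.add_mem _ hc hd
  rw [show r • c = algebraMap O A r * c from Algebra.smul_def r c]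
  exact Submodule.smul_mem_smul (N := RingHom.ker π.toRingHom) (map_nonunit (algebraMap O A) r hr) hc

/-- **An immersion with flat finitely presented source which is quasi-regular on the fibre is regular.** -/
theorem regularImmersionAt_of_fibre_at {T X S : Scheme.{u}} (φ : X ⟶ S) [LocallyOfFinitePresentation φ]
    (i : T ⟶ X) [IsClosedImmersion i] [Flat (i ≫ φ)] [LocallyOfFinitePresentation (i ≫ φ)] (z : T) (s : S)
    (hs : φ (i z) = s) (hflat : (φ.stalkMap (i z)).hom.Flat)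
    (h : ∀ z' : ↥(Limits.pullback i (φ.fiberι s)), Limits.pullback.fst i (φ.fiberι s) z' = z →
      RegImm.IsRegularImmersionAt .quasi (Limits.pullback.snd i (φ.fiberι s)) z') :
    RegImm.IsRegularImmersionAt .regular i z := by
  subst hs
  let ι := φ.fiberι (φ (i z))
  let w := φ.asFiber (i z)
  obtain ⟨z', hz'1, hz'2⟩ := Scheme.Pullback.exists_preimage_pullback (f := i) (g := ι) z w
    (φ.fiberι_asFiber (i z)).symm
  let i' := Limits.pullback.snd i ι
  have hsq : IsPullback (Limits.pullback.fst i ι) i' i ι := IsPullback.of_hasPullback i ι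
  haveI : LocallyOfFiniteType (φ.fiberToSpecResidueField (φ (i z))) :=
    MorphismProperty.pullback_snd (P := @LocallyOfFiniteType) φ _ inferInstance
  haveI : IsLocallyNoetherian (φ.fiber (φ (i z))) :=
    LocallyOfFiniteType.isLocallyNoetherian (φ.fiberToSpecResidueField (φ (i z)))
  obtain ⟨rs, hrs, hrsker⟩ := exists_stalk_of_regularImmersionAt i' z'
    (regImmAt_of_regImmAt .quasi .regular i' z' (h z' hz'1))
  -- affine charts
  obtain ⟨V, hV, hzV, -⟩ := exists_isAffineOpen_mem_and_subset (U := ⊤) (x := φ (i z)) trivial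
  obtain ⟨U, hU, hzU, hUV⟩ := exists_isAffineOpen_mem_and_subset (U := φ ⁻¹ᵁ V) (x := i z) hzV
  replace hUV : U ≤ φ ⁻¹ᵁ V := hUV
  obtain ⟨hU', hUs⟩ := Synt29.surjective_app_of_isClosedImmersion_restrict i U hU
  let I := RingHom.ker (i.app U).hom
  have hIfg : I.FG := by
    letI : Algebra Γ(S, V) Γ(X, U) := (φ.appLE V U hUV).hom.toAlgebra
    letI : Algebra Γ(S, V) Γ(T, i ⁻¹ᵁ U) := ((i ≫ φ).appLE V (i ⁻¹ᵁ U) fun y hy => hUV hy).hom.toAlgebra
    haveI : Algebra.FinitePresentation Γ(S, V) Γ(X, U) :=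
      HasRingHomProperty.appLE @LocallyOfFinitePresentation φ ‹_› ⟨V, hV⟩ ⟨U, hU⟩ hUV
    haveI : Algebra.FinitePresentation Γ(S, V) Γ(T, i ⁻¹ᵁ U) :=
      HasRingHomProperty.appLE @LocallyOfFinitePresentation (i ≫ φ) ‹_› ⟨V, hV⟩ ⟨_, hU'⟩ _
    let ψ : Γ(X, U) →ₐ[Γ(S, V)] Γ(T, i ⁻¹ᵁ U) := ⟨(i.app U).hom, fun a => by
      show (φ.appLE V U hUV ≫ i.app U) a = _
      rw [Scheme.Hom.app_eq_appLE, Scheme.Hom.appLE_comp_appLE]
      rfl⟩
    exact Algebra.FinitePresentation.ker_fG_of_surjective ψ hUs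
  letI : Algebra Γ(X, U) (X.presheaf.stalk (i z)) := (X.presheaf.germ U (i z) hzU).hom.toAlgebra
  have hloc : IsLocalization.AtPrime (X.presheaf.stalk (i z)) (hU.primeIdealOf ⟨i z, hzU⟩).asIdeal :=
    hU.isLocalization_stalk ⟨i z, hzU⟩
  have hIx : RingHom.ker (i.stalkMap z).hom = I.map (algebraMap Γ(X, U) (X.presheaf.stalk (i z))) :=
    RegNear.ker_stalkMap_of_surjective i z hU hU' hUs hzU
  -- the local ring of the fibre
  have hw : ι (i' z') = i z := by rw [show i' z' = w from hz'2]; exact φ.fiberι_asFiber (i z)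
  let σ : X.presheaf.stalk (i z) →+* (φ.fiber (φ (i z))).presheaf.stalk (i' z') := FibFlat.sm ι (i' z') (i z) hw
  have hσ : Function.Surjective σ := FibFlat.surjective_sm (i' z') (i z) hw
  let J := (maximalIdeal (S.presheaf.stalk (φ (i z)))).map (φ.stalkMap (i z)).hom
  have hσker : RingHom.ker σ = J := by
    rw [FibFlat.ker_sm_fiberι φ (φ (i z)) (i' z') (i z) hw, FibFlat.sm_self]
  have hσI : (RingHom.ker (i.stalkMap z).hom).map σ = RingHom.ker (i'.stalkMap z').hom := by
    have hwU : i' z' ∈ ι ⁻¹ᵁ U := by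
      show ι (i' z') ∈ U
      rw [hw]
      exact hzU
    obtain ⟨U₁, hU₁, hwU₁, hle⟩ := exists_isAffineOpen_mem_and_subset (U := ι ⁻¹ᵁ U) hwU
    replace hle : U₁ ≤ ι ⁻¹ᵁ U := hle
    obtain ⟨hk, hci'⟩ := ker_baseChange hsq hU hU₁ hle
    haveI := hci'
    obtain ⟨hU₁', hU₁s⟩ := Synt29.surjective_app_of_isClosedImmersion_restrict i' U₁ hU₁
    rw [hIx, RegNear.ker_stalkMap_of_surjective i' z' hU₁ hU₁' hU₁s hwU₁, hk, Ideal.map_map, Ideal.map_map]
    congr 1
    refine RingHom.ext fun a => ?_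
    show σ (X.presheaf.germ U (i z) hzU a) =
      (φ.fiber (φ (i z))).presheaf.germ U₁ (i' z') hwU₁ (ι.appLE U U₁ hle a)
    show (X.presheaf.germ U (i z) hzU ≫ X.presheaf.stalkSpecializes (specializes_of_eq hw) ≫ ι.stalkMap (i' z')) a =
      (ι.appLE U U₁ hle ≫ (φ.fiber (φ (i z))).presheaf.germ U₁ (i' z') hwU₁) a
    rw [TopCat.Presheaf.germ_stalkSpecializes_assoc, Scheme.Hom.germ_stalkMap, Scheme.Hom.appLE, Category.assoc,
      TopCat.Presheaf.germ_res]
  -- lifts
  have hlift : ∀ l : List ↑((φ.fiber (φ (i z))).presheaf.stalk (i' z')),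
      (∀ r ∈ l, r ∈ RingHom.ker (i'.stalkMap z').hom) →
      ∃ hs : List ↑(X.presheaf.stalk (i z)), (∀ r ∈ hs, r ∈ RingHom.ker (i.stalkMap z).hom) ∧ hs.map σ = l := by
    intro l
    induction l with
    | nil => exact fun _ => ⟨[], by simp, rfl⟩
    | cons r l ih =>
      intro hl
      obtain ⟨hs, h1, h2⟩ := ih fun a ha => hl a (List.mem_cons_of_mem _ ha)
      obtain ⟨a, ha, har⟩ := (Ideal.mem_map_iff_of_surjective σ hσ).1 (hσI.ge (hl r (List.mem_cons_self ..)))
      exact ⟨a :: hs, fun b hb => (List.mem_cons.1 hb).elim (fun e => e ▸ ha) (h1 b), by rw [List.map_cons, har, h2]⟩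
  obtain ⟨hs, hsI, hsmap⟩ := hlift rs fun r hr => hrsker.ge (Ideal.subset_span hr)
  -- generation
  have hgen : RingHom.ker (i.stalkMap z).hom = Ideal.ofList hs := by
    letI : Algebra (S.presheaf.stalk (φ (i z))) (X.presheaf.stalk (i z)) := (φ.stalkMap (i z)).hom.toAlgebra
    letI : Algebra (S.presheaf.stalk (φ (i z))) (T.presheaf.stalk z) := ((i ≫ φ).stalkMap z).hom.toAlgebra
    haveI : Module.Flat (S.presheaf.stalk (φ (i z))) (T.presheaf.stalk z) := Flat.stalkMap (i ≫ φ) z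
    haveI : IsLocalHom (algebraMap (S.presheaf.stalk (φ (i z))) (X.presheaf.stalk (i z))) :=
      inferInstanceAs <| IsLocalHom (φ.stalkMap (i z)).hom
    let π : X.presheaf.stalk (i z) →ₐ[S.presheaf.stalk (φ (i z))] T.presheaf.stalk z :=
      ⟨(i.stalkMap z).hom, fun a => by
        show (φ.stalkMap (i z) ≫ i.stalkMap z) a = ((i ≫ φ).stalkMap z) a
        rw [Scheme.Hom.stalkMap_comp]
        rfl⟩
    refine eq_of_le_sup_of_flat π (i.stalkMap_surjective z) _ (Ideal.ofList hs) rfl (hIx ▸ hIfg.map _)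
      (Ideal.span_le.2 hsI) fun x hx => ?_
    have h1 : σ x ∈ (Ideal.ofList hs).map σ := by
      rw [Ideal.map_ofList, hsmap, ← hrsker, ← hσI]
      exact Ideal.mem_map_of_mem σ hx
    rw [← Ideal.mem_comap, Ideal.comap_map_of_surjective σ hσ, ← RingHom.ker_eq_comap_bot, hσker] at h1
    exact h1
  have hm : ∀ r ∈ hs, r ∈ maximalIdeal (X.presheaf.stalk (i z)) := fun r hr =>
    le_maximalIdeal (RingHom.ker_ne_top (i.stalkMap z).hom) (hsI r hr)
  obtain ⟨V', hV', U', hU'a, hzU', hU'le, e, hs', hgerm, -, hwr, -⟩ :=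
    Triage.SliceFlat.exists_slice_sch φ (i z) hflat hs hm (fun k hk y hy => by
      have h0 := hrs.toIsWeaklyRegular.regular_mod_prev k (by rw [← hsmap]; simpa using hk)
      have hI : ∀ v, Submodule.Quotient.mk (p := (Ideal.ofList (rs.take k) • ⊤ :
            Submodule ↑((φ.fiber (φ (i z))).presheaf.stalk (i' z')) ↑((φ.fiber (φ (i z))).presheaf.stalk (i' z')))) (σ v) = 0 ↔
          v ∈ Ideal.ofList (hs.take k) ⊔ J := by
        intro v
        rw [Submodule.Quotient.mk_eq_zero, Ideal.smul_eq_mul, Ideal.mul_top, ← hsmap, ← List.map_take,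
          ← Ideal.map_ofList, ← Ideal.mem_comap, Ideal.comap_map_of_surjective σ hσ,
          ← RingHom.ker_eq_comap_bot, hσker]
      rw [← hI]
      refine h0.right_eq_zero_of_smul ?_
      rw [← Submodule.Quotient.mk_smul]
      have hget : rs[k]'(by rw [← hsmap]; simpa using hk) = σ hs[k] := by
        simp only [← hsmap, List.getElem_map]
      simp only [hget, smul_eq_mul, ← map_mul]
      exact (hI _).2 hy) U hzU
  haveI hciU' : IsClosedImmersion (i ∣_ U') := inferInstance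
  obtain ⟨hU'', hU's⟩ := Synt29.surjective_app_of_isClosedImmersion_restrict i U' hU'a
  letI : Algebra Γ(X, U') (X.presheaf.stalk (i z)) := (X.presheaf.germ U' (i z) hzU').hom.toAlgebra
  haveI : IsLocalization.AtPrime (X.presheaf.stalk (i z)) (hU'a.primeIdealOf ⟨i z, hzU'⟩).asIdeal :=
    hU'a.isLocalization_stalk ⟨i z, hzU'⟩
  let N := RingHom.ker (i.app U').hom
  let M : Ideal Γ(X, U') := Ideal.ofList hs'
  have hNM : N.map (algebraMap Γ(X, U') (X.presheaf.stalk (i z))) =
      M.map (algebraMap Γ(X, U') (X.presheaf.stalk (i z))) := by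
    rw [← show RingHom.ker (i.stalkMap z).hom = N.map (algebraMap Γ(X, U') (X.presheaf.stalk (i z))) from
      RegNear.ker_stalkMap_of_surjective i z hU'a hU'' hU's hzU', hgen, ← hgerm, ← Ideal.map_ofList]
    rfl
  have hNfg : N.FG := by
    obtain ⟨V₀, hV₀, hzV₀, -⟩ := exists_isAffineOpen_mem_and_subset (U := ⊤) (x := φ (i z)) trivial
    letI : Algebra Γ(S, V') Γ(X, U') := (φ.appLE V' U' e).hom.toAlgebra
    letI : Algebra Γ(S, V') Γ(T, i ⁻¹ᵁ U') := ((i ≫ φ).appLE V' (i ⁻¹ᵁ U') fun y hy => e hy).hom.toAlgebra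
    haveI : Algebra.FinitePresentation Γ(S, V') Γ(X, U') :=
      HasRingHomProperty.appLE @LocallyOfFinitePresentation φ ‹_› ⟨V', hV'⟩ ⟨U', hU'a⟩ e
    haveI : Algebra.FinitePresentation Γ(S, V') Γ(T, i ⁻¹ᵁ U') :=
      HasRingHomProperty.appLE @LocallyOfFinitePresentation (i ≫ φ) ‹_› ⟨V', hV'⟩ ⟨_, hU''⟩ _
    let ψ : Γ(X, U') →ₐ[Γ(S, V')] Γ(T, i ⁻¹ᵁ U') := ⟨(i.app U').hom, fun a => by
      show (φ.appLE V' U' e ≫ i.app U') a = _
      rw [Scheme.Hom.app_eq_appLE, Scheme.Hom.appLE_comp_appLE]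
      rfl⟩
    exact Algebra.FinitePresentation.ker_fG_of_surjective ψ hU's
  have hMfg : M.FG := by
    classical
    exact ⟨(show List Γ(X, U') from hs').toFinset, by
      show Ideal.span _ = Ideal.ofList _
      rw [Ideal.ofList]; congr 1; ext; simp⟩
  let Q := (hU'a.primeIdealOf ⟨i z, hzU'⟩).asIdeal
  obtain ⟨t₁, ht₁, h₁⟩ := exists_mul_mem_of_map_le Q (X.presheaf.stalk (i z)) N M hNfg hNM.le
  obtain ⟨t₂, ht₂, h₂⟩ := exists_mul_mem_of_map_le Q (X.presheaf.stalk (i z)) M N hMfg hNM.ge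
  let g := t₁ * t₂
  have hg : g ∉ Q := fun hh => (Ideal.IsPrime.mem_or_mem inferInstance hh).elim ht₁ ht₂
  let W := X.basicOpen g
  have hzW : i z ∈ W := by
    show i z ∈ (X.basicOpen g : Set X)
    rw [← hU'a.fromSpec_image_basicOpen g]
    exact ⟨hU'a.primeIdealOf ⟨i z, hzU'⟩, hg, hU'a.fromSpec_primeIdealOf _⟩
  letI : Algebra Γ(X, U') Γ(X, W) := (X.presheaf.map (homOfLE (X.basicOpen_le g)).op).hom.toAlgebra
  haveI : IsLocalization.Away g Γ(X, W) := hU'a.isLocalization_basicOpen g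
  haveI : Module.Flat Γ(X, U') Γ(X, W) := IsLocalization.flat _ (Submonoid.powers g)
  have hu : ∀ t, t ∣ g → IsUnit (algebraMap Γ(X, U') Γ(X, W) t) := fun t ht =>
    isUnit_of_dvd_unit (map_dvd _ ht) (IsLocalization.Away.algebraMap_isUnit g)
  have hkW : RingHom.ker (i.app W).hom = Ideal.ofList ((show List Γ(X, U') from hs').map (algebraMap Γ(X, U') Γ(X, W))) := by
    refine (app_basicOpen_props i hU'a hU'' hU's g).2.2.trans ?_
    rw [← Ideal.map_ofList]
    show N.map (algebraMap Γ(X, U') Γ(X, W)) = M.map (algebraMap Γ(X, U') Γ(X, W))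
    refine le_antisymm (Ideal.map_le_iff_le_comap.2 fun b hb => ?_) (Ideal.map_le_iff_le_comap.2 fun b hb => ?_)
    · rw [Ideal.mem_comap, ← Ideal.unit_mul_mem_iff_mem _ (hu t₁ (dvd_mul_right _ _)), ← map_mul]
      exact Ideal.mem_map_of_mem _ (h₁ b hb)
    · rw [Ideal.mem_comap, ← Ideal.unit_mul_mem_iff_mem _ (hu t₂ (dvd_mul_left _ _)), ← map_mul]
      exact Ideal.mem_map_of_mem _ (h₂ b hb)
  refine ⟨⟨W, hU'a.basicOpen g⟩, hzW, inferInstance, _, ⟨IsWeaklyRegular.of_flat (S := Γ(X, W))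
    (show IsWeaklyRegular Γ(X, U') (show List Γ(X, U') from hs') from hwr), ?_⟩, hkW⟩
  rw [smul_eq_mul, Ideal.mul_top, ← hkW]
  haveI : Nonempty (i ⁻¹ᵁ W : T.Opens) := ⟨⟨z, hzW⟩⟩
  exact (RingHom.ker_ne_top _).symm

/-- An immersion with flat finitely presented source into a flat scheme, quasi-regular on the fibre, is regular. -/
theorem regularImmersionAt_of_fibre {T X S : Scheme.{u}} (φ : X ⟶ S) [Flat φ] [LocallyOfFinitePresentation φ]
    (i : T ⟶ X) [IsClosedImmersion i] [Flat (i ≫ φ)] [LocallyOfFinitePresentation (i ≫ φ)] (z : T) (s : S)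
    (hs : φ (i z) = s)
    (h : ∀ z' : ↥(Limits.pullback i (φ.fiberι s)),
      RegImm.IsRegularImmersionAt .quasi (Limits.pullback.snd i (φ.fiberι s)) z') :
    RegImm.IsRegularImmersionAt .regular i z :=
  regularImmersionAt_of_fibre_at φ i z s hs (Flat.stalkMap φ (i z)) fun z' _ => h z'

end Groth.Agent.RegImmLib
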