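import Mathlib
import Groth.Agent.CAlgOdd.H1Regular
import Groth.Agent.Synt29.QRDescentFF
import Groth.Agent.RegImmLib.FlatKinds

/-!
# Descent of `H₁`-regularity of sequences

A quasi-regular sequence generating, locally on a faithfully flat algebra, the same ideal as an
`H₁`-regular one is `H₁`-regular.
-/

set_option autoImplicit false
set_option linter.style.haveILetI false
set_option backward.isDefEq.respectTransparency.types false

universe u

open Matrix TensorProduct

namespace Groth.Agent.RegImmLib.H1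

open Groth.Agent.Synt29.QRDescent

variable {R S : Type u} [CommRing R] [CommRing S] {r n : ℕ}

/-- The span of the trivial relations. -/
abbrev Triv (f : Fin r → R) : Submodule R (Fin r → R) :=
  Submodule.span R {v : Fin r → R | ∃ i j : Fin r, v = Pi.single i (f j) - Pi.single j (f i)}

theorem triv_mem (f : Fin r → R) (i j : Fin r) : Pi.single i (f j) - Pi.single j (f i) ∈ Triv f :=
  Submodule.subset_span ⟨i, j, rfl⟩

/-- A coefficient times a relation is a trivial relation. -/
theorem smul_mem_triv (f : Fin r → R) (a : Fin r → R) (ha : ∑ i, a i * f i = 0) (i : Fin r) :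
    f i • a ∈ Triv f := by
  classical
  have h : f i • a = ∑ k, a k • ((Pi.single k (f i) - Pi.single i (f k) : Fin r → R)) := by
    funext m
    simp only [Pi.smul_apply, smul_eq_mul, Finset.sum_apply, Pi.sub_apply, mul_sub, Finset.sum_sub_distrib,
      Pi.single_apply, mul_ite, mul_zero, Finset.sum_ite_eq, Finset.mem_univ, if_true]
    by_cases hm : m = i
    · subst hm
      simp only [if_true, ha, sub_zero]
      ring
    · simp only [if_neg hm, Finset.sum_const_zero, sub_zero]
      ring
  rw [h]
  exact Submodule.sum_mem _ fun k _ => Submodule.smul_mem _ _ (triv_mem f k i)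

/-- Comparison with an `H₁`-regular sequence of the same ideal. -/
theorem det_smul_mem_triv {f : Fin r → R} {h : Fin n → R} (hh : CAlgX.IsH1Regular h)
    (M : Matrix (Fin r) (Fin n) R) (N : Matrix (Fin n) (Fin r) R) (hM : f = M *ᵥ h) (hN : h = N *ᵥ f)
    (a : Fin r → R) (ha : ∑ i, a i * f i = 0) : (M * N).det • a ∈ Triv f := by
  classical
  have haf : a ⬝ᵥ f = 0 := ha
  have hPf : (M * N) *ᵥ f = f := by rw [← mulVec_mulVec, ← hN, ← hM]
  let a' : Fin r → R := a ᵥ* (M * N).adjugate
  have ha' : a' ⬝ᵥ f = 0 := by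
    show (a ᵥ* (M * N).adjugate) ⬝ᵥ f = 0
    rw [← dotProduct_mulVec]
    conv_lhs => rw [← hPf]
    rw [mulVec_mulVec, adjugate_mul, smul_mulVec, one_mulVec, dotProduct_smul, haf, smul_zero]
  have hb : (a' ᵥ* M) ⬝ᵥ h = 0 := by rw [← dotProduct_mulVec, ← hM, ha']
  have hmem : a' ᵥ* M ∈ Triv h := hh _ hb
  have hle : Triv h ≤ (Triv f).comap N.vecMulLinear := by
    rw [Submodule.span_le]
    rintro _ ⟨p, q, rfl⟩
    show (Pi.single p (h q) - Pi.single q (h p)) ᵥ* N ∈ Triv f
    have hi : ∀ i, h i = ∑ l, N i l * f l := fun i => congrFun hN i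
    have e : (Pi.single p (h q) - Pi.single q (h p)) ᵥ* N =
        ∑ k, ∑ l, (N p k * N q l) • ((Pi.single k (f l) - Pi.single l (f k) : Fin r → R)) := by
      funext m
      rw [sub_vecMul, single_vecMul, single_vecMul, hi q, hi p]
      simp only [Pi.sub_apply, Pi.smul_apply, smul_eq_mul, Matrix.row_apply, Finset.sum_apply,
        mul_sub, Finset.sum_sub_distrib, Pi.single_apply, mul_ite, mul_zero]
      have s1 : ∀ k, ∑ l, (if m = k then N p k * N q l * f l else 0) =
          if m = k then N p k * ∑ l, N q l * f l else 0 := fun k => by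
        split_ifs
        · rw [Finset.mul_sum]; exact Finset.sum_congr rfl fun l _ => mul_assoc _ _ _
        · exact Finset.sum_const_zero
      have s2 : ∀ k, ∑ l, (if m = l then N p k * N q l * f k else 0) = N q m * (N p k * f k) := fun k => by
        rw [Finset.sum_ite_eq, if_pos (Finset.mem_univ m)]; ring
      rw [Finset.sum_congr rfl fun k _ => s1 k, Finset.sum_congr rfl fun k _ => s2 k, Finset.sum_ite_eq,
        if_pos (Finset.mem_univ m), ← Finset.mul_sum]
      ring
    rw [e]
    exact Submodule.sum_mem _ fun k _ => Submodule.sum_mem _ fun l _ => Submodule.smul_mem _ _ (triv_mem f k l)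
  have := hle hmem
  rw [Submodule.mem_comap, vecMulLinear_apply, vecMul_vecMul] at this
  show (M * N).det • a ∈ Triv f
  convert this using 1
  show _ = (a ᵥ* (M * N).adjugate) ᵥ* (M * N)
  rw [vecMul_vecMul, adjugate_mul, vecMul_smul, vecMul_one]

/-- The determinant of a change of generators is a unit modulo the ideal. -/
theorem det_sub_one_mem {f : Fin r → R} (hf : CAlgX.IsQuasiRegular f) (P : Matrix (Fin r) (Fin r) R)
    (hP : P *ᵥ f = f) : P.det - 1 ∈ Ideal.span (Set.range f) := by
  classical
  let π := Ideal.Quotient.mk (Ideal.span (Set.range f))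
  rw [← Ideal.Quotient.mk_eq_mk_iff_sub_mem, RingHom.map_det, map_one]
  have : π.mapMatrix P = 1 := by
    ext i j
    have h0 : ∑ l, (P - 1 : Matrix (Fin r) (Fin r) R) i l * f l = 0 := by
      show ((P - 1) *ᵥ f) i = 0
      rw [sub_mulVec, hP, one_mulVec, sub_self]
      rfl
    have h1 := Ideal.Quotient.eq_zero_iff_mem.2 (mem_of_rel hf _ h0 j)
    rw [Matrix.sub_apply, map_sub, sub_eq_zero] at h1
    rw [RingHom.mapMatrix_apply, Matrix.map_apply]
    refine h1.trans ?_
    rw [Matrix.one_apply, Matrix.one_apply, apply_ite π, map_one, map_zero]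
  rw [this, det_one]

/-- Clearing denominators. -/
theorem exists_smul_mem_of_map_mem [Algebra R S] (M : Submonoid R) [IsLocalization M S] {f : Fin r → R}
    {a : Fin r → R} (h : (algebraMap R S ∘ a) ∈ Triv (algebraMap R S ∘ f)) : ∃ m ∈ M, m • a ∈ Triv f := by
  classical
  suffices key : ∀ v ∈ Triv (algebraMap R S ∘ f), ∃ m ∈ M, ∃ w ∈ Triv f,
      algebraMap R S ∘ w = algebraMap R S m • v by
    obtain ⟨m, hm, w, hw, he⟩ := key _ h
    have hc : ∀ i, ∃ c : M, (c : R) * w i = c * (m * a i) := fun i =>
      (IsLocalization.eq_iff_exists M S).1 (by rw [map_mul]; exact congrFun he i)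
    choose c hc using hc
    let t : M := ∏ i, c i
    refine ⟨(t : R) * m, M.mul_mem t.2 hm, ?_⟩
    have e : ((t : R) * m) • a = (t : R) • w := by
      funext i
      obtain ⟨d, hd⟩ : (c i : R) ∣ (t : R) :=
        (Finset.dvd_prod_of_mem (fun i => (c i : R)) (Finset.mem_univ i)).trans
          (by rw [Submonoid.coe_finsetProd])
      simp only [Pi.smul_apply, smul_eq_mul]
      rw [hd]
      linear_combination (-d) * hc i
    rw [e]
    exact Submodule.smul_mem _ _ hw
  intro v hv
  induction hv using Submodule.span_induction with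
  | mem x hx =>
    obtain ⟨i, j, rfl⟩ := hx
    refine ⟨1, M.one_mem, _, triv_mem f i j, ?_⟩
    funext k
    simp only [Function.comp_apply, Pi.sub_apply, Pi.single_apply, map_sub, apply_ite (algebraMap R S), map_zero,
      map_one, one_smul]
  | zero =>
    refine ⟨1, M.one_mem, 0, zero_mem _, ?_⟩
    funext k
    simp
  | add x y _ _ hx hy =>
    obtain ⟨m, hm, w, hw, he⟩ := hx
    obtain ⟨m', hm', w', hw', he'⟩ := hy
    refine ⟨m * m', M.mul_mem hm hm', m' • w + m • w',
      add_mem (Submodule.smul_mem _ _ hw) (Submodule.smul_mem _ _ hw'), ?_⟩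
    funext k
    have e1 := congrFun he k
    have e2 := congrFun he' k
    simp only [Function.comp_apply, Pi.smul_apply, smul_eq_mul] at e1 e2
    simp only [Function.comp_apply, Pi.add_apply, Pi.smul_apply, smul_eq_mul, map_add, map_mul, e1, e2]
    ring
  | smul c x _ hx =>
    obtain ⟨m, hm, w, hw, he⟩ := hx
    obtain ⟨⟨b, s⟩, hbs⟩ := IsLocalization.surj M c
    refine ⟨m * s, M.mul_mem hm s.2, b • w, Submodule.smul_mem _ _ hw, ?_⟩
    funext k
    have e1 := congrFun he k
    simp only [Function.comp_apply, Pi.smul_apply, smul_eq_mul] at e1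
    simp only [Function.comp_apply, Pi.smul_apply, smul_eq_mul, map_mul, e1]
    linear_combination (-(algebraMap R S m * x k)) * hbs

/-- Membership in the trivial relations descends along faithfully flat maps. -/
theorem mem_triv_of_faithfullyFlat [Algebra R S] [Module.FaithfullyFlat R S] {f : Fin r → R} {a : Fin r → R}
    (h : (algebraMap R S ∘ a) ∈ Triv (algebraMap R S ∘ f)) : a ∈ Triv f := by
  classical
  let e := TensorProduct.piScalarRight R S S (Fin r)
  let ι := (Triv f).subtype
  have he : ∀ v : Fin r → R, e ((1 : S) ⊗ₜ[R] v) = algebraMap R S ∘ v := fun v => by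
    funext k
    simp [e, Algebra.smul_def]
  have hle : Triv (algebraMap R S ∘ f) ≤
      (LinearMap.range (ι.baseChange S)).map (e : _ →ₗ[S] _) := by
    rw [Submodule.span_le]
    rintro _ ⟨i, j, rfl⟩
    refine ⟨(1 : S) ⊗ₜ[R] (Pi.single i (f j) - Pi.single j (f i)), ⟨(1 : S) ⊗ₜ[R] ⟨_, triv_mem f i j⟩, rfl⟩, ?_⟩
    show e _ = _
    rw [he]
    funext k
    simp only [Function.comp_apply, Pi.sub_apply, Pi.single_apply, map_sub, apply_ite (algebraMap R S), map_zero]
  obtain ⟨w, ⟨w', rfl⟩, hw⟩ := hle h
  have hw' : ι.baseChange S w' = (1 : S) ⊗ₜ[R] a := e.injective (hw.trans (he a).symm)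
  have h0 : (Submodule.mkQ (Triv f)).lTensor S ((1 : S) ⊗ₜ[R] a) = 0 := by
    rw [← hw']
    show (Submodule.mkQ (Triv f)).lTensor S (ι.lTensor S w') = 0
    rw [← LinearMap.lTensor_comp_apply,
      show Submodule.mkQ (Triv f) ∘ₗ ι = 0 from LinearMap.ext fun x => (Submodule.Quotient.mk_eq_zero _).2 x.2,
      LinearMap.lTensor_zero, LinearMap.zero_apply]
  rw [LinearMap.lTensor_tmul] at h0
  refine (Submodule.Quotient.mk_eq_zero _).1 (Module.FaithfullyFlat.tensorProduct_mk_injective (A := R) (B := S) _ ?_)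
  rw [map_zero]
  exact h0

/-- Locally `H₁`-regular: every prime containing the ideal has a basic neighbourhood on which the ideal
is generated by an `H₁`-regular sequence. -/
def LocH1 (J : Ideal R) : Prop :=
  ∀ (P : Ideal R) [P.IsPrime], J ≤ P → ∃ g : R, g ∉ P ∧ ∃ (r : ℕ) (f : Fin r → Localization.Away g),
    CAlgX.IsH1Regular f ∧ Ideal.span (Set.range f) = J.map (algebraMap R (Localization.Away g))

theorem LocH1.isLocallyQuasiRegular {J : Ideal R} (h : LocH1 J) : PP16.IsLocallyQuasiRegular R J := by
  intro P _ hP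
  obtain ⟨g, hg, r, f, hf, hI⟩ := h P hP
  exact ⟨g, hg, r, f, Groth.Agent.CAlgOdd.H1Regular.isQuasiRegular f hf, hI⟩

/-- A quasi-regular sequence generating a locally `H₁`-regular ideal is `H₁`-regular. -/
theorem isH1Regular_of_locH1 {y : Fin r → R} (hy : CAlgX.IsQuasiRegular y)
    (h : LocH1 (Ideal.span (Set.range y))) : CAlgX.IsH1Regular y := by
  classical
  intro a ha
  let I : Ideal R := (Triv y).comap (LinearMap.toSpanSingleton R _ a)
  suffices hI : I = ⊤ by
    have h1 : (1 : R) • a ∈ Triv y := (hI ▸ Submodule.mem_top : (1 : R) ∈ I)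
    rwa [one_smul] at h1
  by_contra hne
  obtain ⟨Q, hQ, hle⟩ := Ideal.exists_le_maximal I hne
  haveI := hQ.isPrime
  by_cases hyQ : ∀ i, y i ∈ Q
  swap
  · push_neg at hyQ
    obtain ⟨i, hi⟩ := hyQ
    exact hi (hle (smul_mem_triv y a ha i))
  have hJQ : Ideal.span (Set.range y) ≤ Q := Ideal.span_le.2 (Set.range_subset_iff.2 hyQ)
  obtain ⟨g, hg, n, f, hf, hfI⟩ := h Q hJQ
  let T := Localization.Away g
  let al := algebraMap R T
  haveI : Module.Flat R T := IsLocalization.flat T (Submonoid.powers g)
  let y' : Fin r → T := al ∘ y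
  have hy' : CAlgX.IsQuasiRegular y' := qr_flat hy
  have hspan : Ideal.span (Set.range f) = Ideal.span (Set.range y') := by
    rw [hfI, Ideal.map_span, ← Set.range_comp]
  have hfm : ∀ i, ∃ v : Fin n → T, ∑ k, v k * f k = y' i := fun i =>
    Ideal.mem_span_range_iff_exists_fun.1 (hspan.ge (Ideal.subset_span ⟨i, rfl⟩))
  have hym : ∀ k, ∃ v : Fin r → T, ∑ i, v i * y' i = f k := fun k =>
    Ideal.mem_span_range_iff_exists_fun.1 (hspan.le (Ideal.subset_span ⟨k, rfl⟩))
  choose M hM using hfm
  choose N hN using hym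
  have hM' : y' = Matrix.of M *ᵥ f := funext fun i => (hM i).symm
  have hN' : f = Matrix.of N *ᵥ y' := funext fun k => (hN k).symm
  have hdet := det_smul_mem_triv hf _ _ hM' hN' (al ∘ a) (by
    simp only [y', Function.comp_apply, ← map_mul, ← map_sum, ha, map_zero])
  have hd1 := det_sub_one_mem hy' (Matrix.of M * Matrix.of N) (by rw [← mulVec_mulVec, ← hN', ← hM'])
  obtain ⟨⟨d₀, s⟩, hd⟩ := IsLocalization.surj (Submonoid.powers g) (Matrix.of M * Matrix.of N).det
  have hs : (s : R) ∉ Q := by
    obtain ⟨k, hk⟩ := s.2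
    rw [← show g ^ k = (s : R) from hk]
    exact fun h' => hg (hQ.isPrime.mem_of_pow_mem k h')
  have hd₀ : d₀ ∉ Q := by
    intro hd₀
    have hdisj : Disjoint (Submonoid.powers g : Set R) (Q : Set R) := by
      rw [Set.disjoint_left]
      rintro _ ⟨k, rfl⟩ hk
      exact hg (hQ.isPrime.mem_of_pow_mem k hk)
    have hp := IsLocalization.isPrime_of_isPrime_disjoint (Submonoid.powers g) T Q hQ.isPrime hdisj
    have h2 : (Matrix.of M * Matrix.of N).det ∈ Q.map al := by
      rw [← Ideal.mul_unit_mem_iff_mem _ (IsLocalization.map_units T s), hd]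
      exact Ideal.mem_map_of_mem _ hd₀
    have h3 : (Matrix.of M * Matrix.of N).det - 1 ∈ Q.map al := by
      refine (Ideal.span_le.2 ?_ : Ideal.span (Set.range y') ≤ Q.map al) hd1
      rintro _ ⟨i, rfl⟩
      exact Ideal.mem_map_of_mem _ (hyQ i)
    refine hp.ne_top ((Ideal.eq_top_iff_one _).2 ?_)
    simpa using sub_mem h2 h3
  have h4 : al ∘ (d₀ • a) ∈ Triv y' := by
    have : al ∘ (d₀ • a) = al s • ((Matrix.of M * Matrix.of N).det • (al ∘ a)) := by
      funext i
      simp only [Function.comp_apply, Pi.smul_apply, smul_eq_mul, map_mul, al, ← hd]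
      ring
    rw [this]
    exact Submodule.smul_mem _ _ hdet
  obtain ⟨m, ⟨k, rfl⟩, hm⟩ := exists_smul_mem_of_map_mem (Submonoid.powers g) h4
  have h5 : g ^ k * d₀ ∈ Q := hle (by show (g ^ k * d₀) • a ∈ Triv y; rw [mul_smul]; exact hm)
  exact (hQ.isPrime.mem_or_mem h5).elim (fun h' => hg (hQ.isPrime.mem_of_pow_mem k h')) hd₀

/-- A flat algebra in which `g` is invertible receives the sequence. -/
theorem LocH1.map {J : Ideal R} (h : LocH1 J) [Algebra R S] [Module.Flat R S] : LocH1 (J.map (algebraMap R S)) := by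
  intro P _ hP
  obtain ⟨g, hg, r, f, hf, hI⟩ := h (P.comap (algebraMap R S)) (Ideal.map_le_iff_le_comap.1 hP)
  let T := Localization.Away (algebraMap R S g)
  haveI : Module.Flat S T := IsLocalization.flat T (Submonoid.powers (algebraMap R S g))
  haveI : Module.Flat R T := Module.Flat.trans R S T
  have hu : IsUnit (algebraMap R T g) := by
    rw [IsScalarTower.algebraMap_apply R S T]
    exact IsLocalization.Away.algebraMap_isUnit _
  letI : Algebra (Localization.Away g) T := (IsLocalization.Away.lift g hu).toAlgebra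
  haveI : IsScalarTower R (Localization.Away g) T := IsScalarTower.of_algebraMap_eq fun x => by
    rw [RingHom.algebraMap_toAlgebra, IsLocalization.Away.lift_eq]
  haveI : Module.Flat (Localization.Away g) T :=
    (Module.flat_iff_of_isLocalization (Localization.Away g) (Submonoid.powers g) T).2 inferInstance
  refine ⟨algebraMap R S g, hg, r, fun i => algebraMap _ T (f i),
    Groth.Agent.RegImmLib.isH1Regular_flat_map f hf, ?_⟩
  rw [← map_span_range, hI, Ideal.map_map, ← IsScalarTower.algebraMap_eq, Ideal.map_map,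
    ← IsScalarTower.algebraMap_eq]

/-- **Local `H₁`-regularity descends along faithfully flat maps.** -/
theorem locH1_of_faithfullyFlat [Algebra R S] [Module.FaithfullyFlat R S] (I : Ideal R)
    (h : LocH1 (I.map (algebraMap R S))) : LocH1 I := by
  intro p _ hIp
  obtain ⟨g, hg, r, f, hf, hI⟩ := isLocallyQuasiRegular_of_faithfullyFlat I h.isLocallyQuasiRegular p hIp
  let T := Localization.Away g
  let B := T ⊗[R] S
  letI : Algebra S B := Algebra.TensorProduct.rightAlgebra
  haveI : Module.Flat S B := Module.Flat.isBaseChange R S T B (Algebra.IsPushout.out (R := R) (S := S) (R' := T) (S' := B))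
  refine ⟨g, hg, r, f, fun a ha => mem_triv_of_faithfullyFlat (S := B) (r := r) ?_, hI⟩
  refine isH1Regular_of_locH1 (qr_flat hf) ?_ _ (by
    simp only [Function.comp_apply, ← map_mul, ← map_sum, ha, map_zero])
  rw [← map_span_range, hI, Ideal.map_map, ← IsScalarTower.algebraMap_eq R T B,
    IsScalarTower.algebraMap_eq R S B, ← Ideal.map_map]
  exact h.map

end Groth.Agent.RegImmLib.H1
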