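import Mathlib
import Groth.Agent.RegImmLib.H1Descent
import Groth.Agent.RegImmLib.FlatKinds

/-!
# Descent of regular immersions along flat open surjective morphisms

For the kinds Koszul, `H₁` and quasi: an immersion which becomes regular of that kind after a flat,
open and surjective base change is regular of that kind.
-/

set_option autoImplicit false
set_option linter.style.haveILetI false
set_option backward.isDefEq.respectTransparency false
set_option backward.isDefEq.respectTransparency.types false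

universe u

open CategoryTheory AlgebraicGeometry

namespace Groth.Agent.RegImmLib

open Groth.Agent.KRegLib

variable {R S : Type u} [CommRing R] [CommRing S]

theorem ofList_eq_span_get (rs : List R) : Ideal.ofList rs = Ideal.span (Set.range rs.get) := by
  show Ideal.span {y | y ∈ rs} = _
  congr 1
  ext y
  simp [List.mem_iff_get]

/-- The three kinds in terms of families. -/
theorem get_ofFn_pred {P : ∀ {c : ℕ}, (Fin c → R) → Prop} {n : ℕ} (f : Fin n → R) (hf : P f) :
    P (List.ofFn f).get := by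
  have h1 : (List.ofFn f).get = fun i => f (i.cast List.length_ofFn) := by
    funext i; simp; rfl
  rw [h1]
  have h2 : ∀ {c' : ℕ} (e : c' = n), P (fun i : Fin c' => f (i.cast e)) := by
    rintro c' rfl; exact hf
  exact h2 _

/-- Flat maps preserve sequences of the three kinds. -/
theorem seq_map [Algebra R S] [Module.Flat R S] (k : RegImm.Kind) (hk : k ≠ .regular) (rs : List R)
    (h : k.Seq R rs) : k.Seq S (rs.map (algebraMap R S)) := by
  have h2 : (List.ofFn fun i => algebraMap R S (rs.get i)) = rs.map (algebraMap R S) := by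
    conv_rhs => rw [← List.ofFn_get rs]
    rw [List.map_ofFn]
    rfl
  rw [← h2]
  cases k with
  | regular => exact absurd rfl hk
  | koszul =>
    exact KoszulFlatLib.isKoszulRegularSeq_of_isExact (WiebeLib.isExact_map (S := S)
      (WiebeLib.isExact_of_isKoszulRegularSeq rs.get (by rw [List.ofFn_get]; exact h)))
  | h1 => exact get_ofFn_pred (P := fun {c} g => CAlgX.IsH1Regular g) _ (isH1Regular_flat_map rs.get h)
  | quasi => exact get_ofFn_pred (P := fun {c} g => CAlgX.IsQuasiRegular g) _ (isQuasiRegular_flat_map rs.get h)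

/-- Near each prime containing the ideal it is generated by a sequence of kind `k`. -/
def LocSeq (k : RegImm.Kind) (J : Ideal R) : Prop :=
  ∀ (P : Ideal R) [P.IsPrime], J ≤ P → ∃ g : R, g ∉ P ∧ ∃ rs : List (Localization.Away g),
    k.Seq (Localization.Away g) rs ∧ Ideal.ofList rs = J.map (algebraMap R (Localization.Away g))

theorem locSeq_koszul_iff (J : Ideal R) : LocSeq .koszul J ↔ LCI.IsKoszulRegularIdeal J := by
  rw [isKoszulRegularIdeal_iff]
  refine ⟨fun h P hP hJP => ?_, fun h P hP hJP => ?_⟩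
  · obtain ⟨g, hg, rs, hrs, hI⟩ := h P hJP
    exact ⟨g, hg, rs.length, rs.get, WiebeLib.isExact_of_isKoszulRegularSeq rs.get (by rw [List.ofFn_get]; exact hrs),
      hI.symm.trans (ofList_eq_span_get rs)⟩
  · obtain ⟨g, hg, n, f, hf, hI⟩ := h P hP hJP
    exact ⟨g, hg, List.ofFn f, KoszulFlatLib.isKoszulRegularSeq_of_isExact hf,
      (span_range_eq_ofList f).symm.trans hI.symm⟩

theorem locSeq_h1_iff (J : Ideal R) : LocSeq .h1 J ↔ H1.LocH1 J := by
  refine ⟨fun h P hP hJP => ?_, fun h P hP hJP => ?_⟩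
  · obtain ⟨g, hg, rs, hrs, hI⟩ := h P hJP
    exact ⟨g, hg, rs.length, rs.get, hrs, (ofList_eq_span_get rs).symm.trans hI⟩
  · obtain ⟨g, hg, n, f, hf, hI⟩ := h P hJP
    exact ⟨g, hg, List.ofFn f, get_ofFn_pred (P := fun {c} g => CAlgX.IsH1Regular g) f hf,
      (span_range_eq_ofList f).symm.trans hI⟩

theorem locSeq_quasi_iff (J : Ideal R) : LocSeq .quasi J ↔ PP16.IsLocallyQuasiRegular R J := by
  refine ⟨fun h P hP hJP => ?_, fun h P hP hJP => ?_⟩
  · obtain ⟨g, hg, rs, hrs, hI⟩ := h P hJP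
    exact ⟨g, hg, rs.length, rs.get, hrs, (ofList_eq_span_get rs).symm.trans hI⟩
  · obtain ⟨g, hg, n, f, hf, hI⟩ := h P hJP
    exact ⟨g, hg, List.ofFn f, get_ofFn_pred (P := fun {c} g => CAlgX.IsQuasiRegular g) f hf,
      (span_range_eq_ofList f).symm.trans hI⟩

/-- Faithfully flat descent, for the three kinds. -/
theorem locSeq_of_faithfullyFlat [Algebra R S] [Module.FaithfullyFlat R S] (k : RegImm.Kind)
    (hk : k ≠ .regular) (I : Ideal R) (h : LocSeq k (I.map (algebraMap R S))) : LocSeq k I := by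
  cases k with
  | regular => exact absurd rfl hk
  | koszul => exact (locSeq_koszul_iff I).2 (isKoszulRegularIdeal_of_faithfullyFlat I ((locSeq_koszul_iff _).1 h))
  | h1 => exact (locSeq_h1_iff I).2 (H1.locH1_of_faithfullyFlat I ((locSeq_h1_iff _).1 h))
  | quasi =>
    exact (locSeq_quasi_iff I).2
      (Synt29.QRDescent.isLocallyQuasiRegular_of_faithfullyFlat I ((locSeq_quasi_iff _).1 h))

/-- A sequence on any model of the localisation will do. -/
theorem exists_seq_away (k : RegImm.Kind) (hk : k ≠ .regular) (J : Ideal R) (g : R) (T : Type u) [CommRing T]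
    [Algebra R T] [IsLocalization.Away g T] (T' : Type u) [CommRing T'] [Algebra R T'] [IsLocalization.Away g T']
    (rs : List T) (hrs : k.Seq T rs) (hI : Ideal.ofList rs = J.map (algebraMap R T)) :
    ∃ rs' : List T', k.Seq T' rs' ∧ Ideal.ofList rs' = J.map (algebraMap R T') := by
  let e : T ≃ₐ[R] T' := IsLocalization.algEquiv (Submonoid.powers g) _ _
  letI : Algebra T T' := e.toAlgHom.toRingHom.toAlgebra
  haveI : IsScalarTower R T T' := IsScalarTower.of_algebraMap_eq fun x => (e.commutes x).symm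
  haveI : Module.Flat T T' := RingHom.Flat.of_bijective (f := e.toAlgHom.toRingHom) e.bijective
  refine ⟨rs.map (algebraMap T T'), seq_map k hk rs hrs, ?_⟩
  rw [← Ideal.map_ofList, hI, Ideal.map_map, ← IsScalarTower.algebraMap_eq]

variable {Z X : Scheme.{u}}

/-- A regular immersion gives a locally regular kernel on each affine open over which it is closed. -/
theorem locSeq_ker (k : RegImm.Kind) (hk : k ≠ .regular) (i : Z ⟶ X) (hi : RegImm.IsRegularImmersion k i)
    {D : X.Opens} (hD : IsAffineOpen D) [IsClosedImmersion (i ∣_ D)] :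
    LocSeq k (RingHom.ker (i.app D).hom) := by
  intro P hP hle
  obtain ⟨hD', hDs⟩ := Synt29.surjective_app_of_isClosedImmersion_restrict i D hD
  let Q : Ideal Γ(Z, i ⁻¹ᵁ D) := P.map (i.app D).hom
  haveI : Q.IsPrime := Ideal.map_isPrime_of_surjective hDs hle
  let z : Z := hD'.fromSpec ⟨Q, inferInstance⟩
  have hzP : i z = hD.fromSpec ⟨P, hP⟩ := by
    have h1 := IsAffineOpen.SpecMap_appLE_fromSpec i hD hD' le_rfl
    show (hD'.fromSpec ≫ i) _ = _
    rw [← h1]
    show hD.fromSpec (Spec.map _ _) = _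
    congr 1
    apply PrimeSpectrum.ext
    show Q.comap (i.appLE D (i ⁻¹ᵁ D) le_rfl).hom = P
    rw [← Scheme.Hom.app_eq_appLE]
    show (P.map (i.app D).hom).comap (i.app D).hom = P
    rw [Ideal.comap_map_of_surjective _ hDs, ← RingHom.ker_eq_comap_bot, sup_eq_left]
    exact hle
  have hzD : i z ∈ D := by
    rw [hzP]
    have h0 : hD.fromSpec ⟨P, hP⟩ ∈ Set.range hD.fromSpec := ⟨_, rfl⟩
    rwa [hD.range_fromSpec] at h0
  obtain ⟨⟨W, hW⟩, hzW, hci, rs, hrs, hker⟩ := hi.2 z
  haveI := hci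
  obtain ⟨hW', hWs⟩ := Synt29.surjective_app_of_isClosedImmersion_restrict i W hW
  obtain ⟨g, g', hgg, hzg⟩ := exists_basicOpen_le_affine_inter hD hW (i z) ⟨hzD, hzW⟩
  letI : Algebra Γ(X, D) Γ(X, X.basicOpen g) := (X.presheaf.map (homOfLE (X.basicOpen_le g)).op).hom.toAlgebra
  haveI : IsLocalization.Away g Γ(X, X.basicOpen g) := hD.isLocalization_basicOpen g
  haveI := hW.isLocalization_basicOpen g'
  haveI : Module.Flat Γ(X, W) Γ(X, X.basicOpen g') := IsLocalization.flat _ (Submonoid.powers g')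
  refine ⟨g, fun hmem => ?_, ?_⟩
  · have : (⟨P, hP⟩ : PrimeSpectrum Γ(X, D)) ∈ PrimeSpectrum.basicOpen g := by
      rw [← hD.fromSpec_preimage_basicOpen g]
      show hD.fromSpec ⟨P, hP⟩ ∈ X.basicOpen g
      rw [← hzP]
      exact hzg
    exact this hmem
  have key : ∀ (O : X.Opens) (hO : O = X.basicOpen g'), ∃ rs' : List Γ(X, O), k.Seq Γ(X, O) rs' ∧
      RingHom.ker (i.app O).hom = Ideal.ofList rs' := by
    rintro O rfl
    exact ⟨rs.map (algebraMap Γ(X, W) Γ(X, X.basicOpen g')), seq_map k hk rs hrs,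
      ((app_basicOpen_props i hW hW' hWs g').2.2).trans (by rw [hker, ← Ideal.map_ofList]; rfl)⟩
  obtain ⟨rs', hrs', hker'⟩ := key (X.basicOpen g) hgg
  exact exists_seq_away k hk _ g Γ(X, X.basicOpen g) _ rs' hrs'
    (hker'.symm.trans (app_basicOpen_props i hD hD' hDs g).2.2)

/-- A locally regular kernel gives regularity at the points of the affine open. -/
theorem regImmAt_of_locSeq (k : RegImm.Kind) (hk : k ≠ .regular) (i : Z ⟶ X) (z : Z) {D : X.Opens}
    (hD : IsAffineOpen D) (hzD : i z ∈ D) [IsClosedImmersion (i ∣_ D)]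
    (h : LocSeq k (RingHom.ker (i.app D).hom)) : RegImm.IsRegularImmersionAt k i z := by
  obtain ⟨hD', hDs⟩ := Synt29.surjective_app_of_isClosedImmersion_restrict i D hD
  obtain ⟨g, hg, rs, hrs, hI⟩ := h _ (ker_app_le_primeIdealOf i hD hD' z hzD)
  letI : Algebra Γ(X, D) Γ(X, X.basicOpen g) := (X.presheaf.map (homOfLE (X.basicOpen_le g)).op).hom.toAlgebra
  haveI : IsLocalization.Away g Γ(X, X.basicOpen g) := hD.isLocalization_basicOpen g
  obtain ⟨rs', hrs', hI'⟩ := exists_seq_away k hk _ g _ Γ(X, X.basicOpen g) rs hrs hI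
  refine ⟨⟨X.basicOpen g, hD.basicOpen g⟩, ?_, isClosedImmersion_restrict_of_le i (X.basicOpen_le g), rs', hrs',
    ((app_basicOpen_props i hD hD' hDs g).2.2).trans hI'.symm⟩
  show i z ∈ X.basicOpen g
  rw [← hD.fromSpec_image_basicOpen g]
  exact ⟨hD.primeIdealOf ⟨i z, hzD⟩, hg, hD.fromSpec_primeIdealOf _⟩

/-- **Descent along a flat, open and surjective morphism.** -/
theorem isRegularImmersion_of_flat_open {X' Z' : Scheme.{u}} (k : RegImm.Kind) (hk : k ≠ .regular) (i : Z ⟶ X)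
    [IsImmersion i] (g : X' ⟶ X) [Flat g] [Surjective g] [UniversallyOpen g]
    (i' : Z' ⟶ X') (g' : Z' ⟶ Z) (hsq : IsPullback g' i' i g)
    (hi' : RegImm.IsRegularImmersion k i') : RegImm.IsRegularImmersion k i := by
  refine ⟨inferInstance, fun z => ?_⟩
  obtain ⟨U, hU, hzU, -, hci⟩ := exists_affine_isClosedImmersion_restrict i z ⊤ trivial
  haveI := hci
  -- a quasi-compact open of `X'` over `U` which maps onto `U`
  have hA : ∀ x : X, x ∈ U → ∃ A : X'.Opens, IsAffineOpen A ∧ A ≤ g ⁻¹ᵁ U ∧ ∃ x' ∈ A, g x' = x := by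
    intro x hx
    obtain ⟨x', rfl⟩ := g.surjective x
    obtain ⟨A, hA, hx'A, hle⟩ := exists_isAffineOpen_mem_and_subset (U := g ⁻¹ᵁ U) (x := x') hx
    exact ⟨A, hA, hle, x', hx'A, rfl⟩
  choose A hAaff hAle hAx using hA
  obtain ⟨t, ht⟩ := hU.isCompact.elim_finite_subcover
    (fun x : {x : X // x ∈ U} => g '' (A x.1 x.2 : Set X'))
    (fun x => g.isOpenMap _ (A x.1 x.2).2) (fun x hx => Set.mem_iUnion.2 ⟨⟨x, hx⟩, hAx x hx⟩)
  let O : X'.Opens := ⨆ x ∈ t, A x.1 x.2
  have hOc : IsCompact (O : Set X') := by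
    simp only [O, TopologicalSpace.Opens.coe_iSup]
    exact t.finite_toSet.isCompact_biUnion fun x _ => (hAaff x.1 x.2).isCompact
  have hOU : O ≤ g ⁻¹ᵁ U := iSup₂_le fun x _ => hAle x.1 x.2
  haveI : CompactSpace (O : X'.Opens) := isCompact_iff_compactSpace.1 hOc
  obtain ⟨W, p, hp, hpl, hW⟩ := O.toScheme.exists_hom_isAffine_of_isZariskiLocalAtSource @IsLocalIso
  haveI := hW
  haveI : Flat p := (IsLocalIso.le_of_isZariskiLocalAtSource @Flat) _ _ p hpl
  let q : W ⟶ X' := p ≫ O.ι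
  let Z'' := Limits.pullback i' q
  let i'' : Z'' ⟶ W := Limits.pullback.snd i' q
  have hsq'' : IsPullback (Limits.pullback.fst i' q ≫ g') i'' i (q ≫ g) :=
    (IsPullback.of_hasPullback i' q).paste_horiz hsq
  have hle : (⊤ : W.Opens) ≤ (q ≫ g) ⁻¹ᵁ U := fun w _ => hOU (p w).2
  have hi'' : RegImm.IsRegularImmersion k i'' :=
    ⟨MorphismProperty.of_isPullback (P := @IsImmersion) (IsPullback.of_hasPullback i' q) hi'.1, fun z' =>
      isRegularImmersionAt_baseChange (IsPullback.of_hasPullback i' q) k z' (hi'.2 _)⟩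
  obtain ⟨hUY, hUs⟩ := Synt29.surjective_app_of_isClosedImmersion_restrict i U hU
  have hWtop : IsAffineOpen (⊤ : W.Opens) := isAffineOpen_top W
  have hUY' : i'' ⁻¹ᵁ ⊤ = (Limits.pullback.fst i' q ≫ g') ⁻¹ᵁ (i ⁻¹ᵁ U) ⊓ i'' ⁻¹ᵁ ⊤ := by
    refine (inf_eq_right.2 fun y hy => ?_).symm
    show i ((Limits.pullback.fst i' q ≫ g') y) ∈ U
    have h1 : i ((Limits.pullback.fst i' q ≫ g') y) = (q ≫ g) (i'' y) :=
      congrArg (fun φ : Z'' ⟶ X => φ y) hsq''.w
    rw [h1]
    exact hle hy
  have hpo := (isIso_pushoutSection_iff hsq'' hle le_rfl hUY').1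
    (isIso_pushoutSection_of_isAffineOpen hsq'' hle le_rfl hUY' hU hWtop hUY)
  have hs : Function.Surjective (i.appLE U (i ⁻¹ᵁ U) le_rfl) := by
    rw [← Scheme.Hom.app_eq_appLE]
    exact hUs
  have hk' := ker_of_isPushout hpo hs
  rw [← Scheme.Hom.app_eq_appLE, ← Scheme.Hom.app_eq_appLE] at hk'
  letI : Algebra Γ(X, U) Γ(W, ⊤) := ((q ≫ g).appLE U ⊤ hle).hom.toAlgebra
  haveI : Module.FaithfullyFlat Γ(X, U) Γ(W, ⊤) := by
    haveI hflat : Module.Flat Γ(X, U) Γ(W, ⊤) := (q ≫ g).flat_appLE hU hWtop hle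
    refine RingHom.FaithfullyFlat.iff_flat_and_comap_surjective.2 ⟨hflat, fun P => ?_⟩
    have hPU : hU.fromSpec P ∈ U := by
      have h0 : hU.fromSpec P ∈ Set.range hU.fromSpec := ⟨P, rfl⟩
      rwa [hU.range_fromSpec] at h0
    obtain ⟨x, hxt, x', hx'A, hx'⟩ := Set.mem_iUnion₂.1 (ht hPU)
    have hxO : x' ∈ O := (le_iSup₂_of_le (f := fun (x : {x : X // x ∈ U}) (_ : x ∈ t) => A x.1 x.2) x hxt le_rfl) hx'A
    haveI := hp
    obtain ⟨w, hw⟩ := p.surjective ⟨x', hxO⟩
    refine ⟨hWtop.primeIdealOf ⟨w, trivial⟩, hU.fromSpec.isOpenEmbedding.injective ?_⟩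
    show (Spec.map ((q ≫ g).appLE U ⊤ hle) ≫ hU.fromSpec) _ = _
    rw [IsAffineOpen.SpecMap_appLE_fromSpec (q ≫ g) hU hWtop hle]
    show (q ≫ g) (hWtop.fromSpec _) = _
    rw [hWtop.fromSpec_primeIdealOf]
    show g (O.ι (p w)) = _
    rw [hw]
    exact hx'
  haveI : IsClosedImmersion (i'' ∣_ ⊤) := by
    have h2 := Scheme.Hom.isPullback_resLE hsq'' hle le_rfl hUY'
    have h3 : IsClosedImmersion (i.resLE U (i ⁻¹ᵁ U) le_rfl) := by
      rw [Scheme.Hom.resLE_eq_morphismRestrict]
      exact hci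
    rw [← Scheme.Hom.resLE_eq_morphismRestrict]
    exact MorphismProperty.of_isPullback (P := @IsClosedImmersion) h2 h3
  exact regImmAt_of_locSeq k hk i z hU hzU
    (locSeq_of_faithfullyFlat (S := Γ(W, ⊤)) k hk _ (hk' ▸ locSeq_ker k hk i'' hi'' hWtop))

end Groth.Agent.RegImmLib
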