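import Mathlib
import Groth.Agent.RegImmLib.EtDescent
import Groth.Agent.RegImmLib.RegComp
import Groth.Agent.CAlgOdd.H1Append

/-!
# Composites of `H₁`-regular and quasi-regular immersions
-/

set_option autoImplicit false
set_option linter.style.haveILetI false
set_option backward.isDefEq.respectTransparency false
set_option backward.isDefEq.respectTransparency.types false

universe u

open CategoryTheory AlgebraicGeometry

namespace Groth.Agent.RegImmLib

open Groth.Agent.KRegLib

variable {R S : Type u} [CommRing R] [CommRing S]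

/-- Appending lifts of an `H₁`-regular sequence of the quotient to a sequence of kind `H₁` or quasi. -/
theorem exists_append_kind (k : RegImm.Kind) (hk : k = .h1 ∨ k = .quasi) (π : R →+* S)
    (hπ : Function.Surjective π) (rs : List R) (hrs : k.Seq R rs) (hker : RingHom.ker π = Ideal.ofList rs)
    (hs : List S) (hhs : RegImm.Kind.h1.Seq S hs) :
    ∃ ts : List R, k.Seq R ts ∧ Ideal.ofList ts = (Ideal.ofList hs).comap π := by
  obtain ⟨ls, rfl⟩ := exists_lift_list π hπ hs
  let f : Fin rs.length → R := rs.get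
  let g : Fin (ls.map π).length → R := fun i => ls.get (i.cast (by simp))
  have hgget : ∀ i, π (g i) = (ls.map π).get i := fun i => by simp [g]
  have hker' : RingHom.ker π = Ideal.span (Set.range f) := hker.trans (ofList_eq_span_get rs)
  let e : R ⧸ Ideal.span (Set.range f) ≃+* S :=
    (Ideal.quotEquivOfEq hker'.symm).trans (RingHom.quotientKerEquivOfSurjective hπ)
  have hgmod : CAlgX.IsH1Regular fun j => Ideal.Quotient.mk (Ideal.span (Set.range f)) (g j) := by
    letI : Algebra S (R ⧸ Ideal.span (Set.range f)) := e.symm.toRingHom.toAlgebra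
    haveI : Module.Flat S (R ⧸ Ideal.span (Set.range f)) :=
      RingHom.Flat.of_bijective (f := e.symm.toRingHom) e.symm.bijective
    have h1 := isH1Regular_flat_map (S := R ⧸ Ideal.span (Set.range f)) (ls.map π).get hhs
    convert h1 using 2 with j
    show _ = e.symm ((ls.map π).get j)
    rw [← hgget]
    exact ((RingEquiv.symm_apply_eq e).2 rfl).symm
  have hspan : Ideal.span (Set.range (Fin.append f g)) = (Ideal.ofList (ls.map π)).comap π := by
    have hr : Set.range (Fin.append f g) = Set.range f ∪ Set.range g := by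
      ext y
      constructor
      · rintro ⟨i, rfl⟩
        induction i using Fin.addCases with
        | left i => exact Or.inl ⟨i, (Fin.append_left f g i).symm⟩
        | right i => exact Or.inr ⟨i, (Fin.append_right f g i).symm⟩
      · rintro (⟨i, rfl⟩ | ⟨i, rfl⟩)
        · exact ⟨_, Fin.append_left f g i⟩
        · exact ⟨_, Fin.append_right f g i⟩
    have h2 : Ideal.ofList (ls.map π) = (Ideal.span (Set.range g)).map π := by
      rw [ofList_eq_span_get, Ideal.map_span, ← Set.range_comp]
      congr 2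
      funext i
      exact (hgget i).symm
    rw [hr, Ideal.span_union, h2, Ideal.comap_map_of_surjective _ hπ, ← RingHom.ker_eq_comap_bot, hker', sup_comm]
  rcases hk with rfl | rfl
  · exact ⟨List.ofFn (Fin.append f g),
      get_ofFn_pred (P := fun {c} g => CAlgX.IsH1Regular g) _
        (CAlgOdd.H1Append.isH1Regular_append f g hrs hgmod),
      (span_range_eq_ofList _).symm.trans hspan⟩
  · exact ⟨List.ofFn (Fin.append f g),
      get_ofFn_pred (P := fun {c} g => CAlgX.IsQuasiRegular g) _
        (CAlgOdd.H1Append.isQuasiRegular_append f g hrs hgmod),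
      (span_range_eq_ofList _).symm.trans hspan⟩

/-- **Composition**: an `H₁`-regular immersion followed by one of kind `H₁` (resp. quasi). -/
theorem regularImmersionAt_comp_kind (k : RegImm.Kind) (hk : k = .h1 ∨ k = .quasi) {X Y Z : Scheme.{u}}
    (i : Y ⟶ X) (j : Z ⟶ Y) (z : Z) (hi : RegImm.IsRegularImmersionAt k i (j z))
    (hj : RegImm.IsRegularImmersionAt .h1 j z) : RegImm.IsRegularImmersionAt k (j ≫ i) z := by
  obtain ⟨⟨U, hU⟩, hzU, hci, f, hf, hker⟩ := hi
  obtain ⟨⟨V, hV⟩, hzV, hcj, h, hh, hkerh⟩ := hj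
  haveI := hci
  haveI := hcj
  obtain ⟨hU', hUs⟩ := Synt29.surjective_app_of_isClosedImmersion_restrict i U hU
  obtain ⟨g, g', hgg, hzg⟩ := exists_basicOpen_le_affine_inter hU' hV (j z) ⟨hzU, hzV⟩
  obtain ⟨G, rfl⟩ := hUs g
  let W := X.basicOpen G
  have hW : IsAffineOpen W := hU.basicOpen G
  haveI hciW : IsClosedImmersion (i ∣_ W) := isClosedImmersion_restrict_of_le i (X.basicOpen_le G)
  obtain ⟨hW', hWs⟩ := Synt29.surjective_app_of_isClosedImmersion_restrict i W hW
  have hpre : i ⁻¹ᵁ W = Y.basicOpen g' := (Scheme.preimage_basicOpen i G).trans hgg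
  have hzW : i (j z) ∈ W := by
    show j z ∈ i ⁻¹ᵁ W
    rw [hpre, ← hgg]
    exact hzg
  obtain ⟨f', hf', hkerf'⟩ := restrict_seq i hU k f hf hker G (j z) hzW
  obtain ⟨h', hh', hkerh'⟩ := restrict_seq j hV .h1 h hh hkerh g' z (hgg ▸ hzg)
  have key : ∀ O : Y.Opens, O = Y.basicOpen g' → IsClosedImmersion (j ∣_ O) ∧
      ∃ h'' : List Γ(Y, O), RegImm.Kind.h1.Seq Γ(Y, O) h'' ∧ RingHom.ker (j.app O).hom = Ideal.ofList h'' := by
    rintro O rfl
    exact ⟨isClosedImmersion_restrict_of_le j (Y.basicOpen_le g'), h', hh', hkerh'⟩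
  obtain ⟨hcjW, h'', hh'', hkerh''⟩ := key (i ⁻¹ᵁ W) hpre
  obtain ⟨ts, hts, htsI⟩ := exists_append_kind k hk (i.app W).hom hWs f' hf' hkerf' h'' hh''
  refine ⟨⟨W, hW⟩, hzW, ?_, ts, hts, ?_⟩
  · rw [morphismRestrict_comp]
    exact MorphismProperty.comp_mem @IsClosedImmersion _ _ hcjW hciW
  · show RingHom.ker ((j.app (i ⁻¹ᵁ W)).hom.comp (i.app W).hom) = _
    rw [← RingHom.comap_ker, hkerh'', htsI]

end Groth.Agent.RegImmLib
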